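import Groth.Agent.Shriek20.Main

/-!
Stalks and base change of direct images with proper support.
-/

set_option autoImplicit false
set_option backward.isDefEq.respectTransparency.types false
universe u

open CategoryTheory CategoryTheory.Limits AlgebraicGeometry Opposite
open Groth.Agent.Unr55.EtSh Groth.Agent.EtSupp91
open Groth.Agent.PBC20 (unitS compE)

attribute [local instance high] CategoryStruct.toQuiver

namespace Groth.Agent.Shriek20

variable {X Y : Scheme.{u}} (f : X ⟶ Y) [LocallyOfFiniteType f] (F : EtCoh.Ab X)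
  {Ω : Type u} [Field Ω] [IsSepClosed Ω] (ξ : Spec (CommRingCat.of Ω) ⟶ Y)

/-- The map from the stalk of the direct image with proper support to the sections on the fibre. -/
noncomputable def shriekPhi : (EtCoh.stalk ξ).obj ((shriek f).obj F) ⟶
    ((EtCoh.pull (pullback.fst f ξ)).obj F).obj.obj (op (EtCoh.top (pullback f ξ))) :=
  (EtCoh.stalk ξ).map ((shriekι f).app F) ≫ PBC20.phi f ξ F

theorem shriekPhi_germ {V : Y.Etale} (t : Pt ξ V) (s : EtCoh.sect ((shriek f).obj F) V) :
    shriekPhi f F ξ (germ ξ ((shriek f).obj F) t s) =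
      fibSect f (pullback.condition (f := f) (g := ξ)) F t s.1 := by
  refine (congrArg (PBC20.phi f ξ F) (stalk_map_germ ξ ((shriekι f).app F) t s)).trans ?_
  refine (PBC20.phi_germ f ξ F t s.1).trans ?_
  refine (PBC20.phiApp_apply f ξ F V t s.1).trans ?_
  exact map_unitS_eq (pullback.fst f ξ) F (PBC20.eTop f t) _ (pullback.lift_fst _ _ _)
    (fibLift_w f (pullback.condition (f := f) (g := ξ)) t) s.1

theorem shriekPhi_injective : Function.Injective (shriekPhi f F ξ) := by
  refine (injective_iff_map_eq_zero (shriekPhi f F ξ).hom).2 fun a ha => ?_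
  obtain ⟨V, t, s, rfl⟩ := exists_germ_eq ξ ((shriek f).obj F) a
  obtain ⟨V', g, t', h1, h2⟩ := exists_map_eq_zero_of_fibSect f (IsPullback.of_hasPullback f ξ) t
    (mem_shriekSubgroup.1 s.2) ((shriekPhi_germ f F ξ t s).symm.trans ha)
  exact (germ_eq_zero_iff ξ ((shriek f).obj F) t s).2 ⟨V', g, t', h1, Subtype.ext h2⟩

theorem properOver_shriekPhi (a : ((EtCoh.stalk ξ).obj ((shriek f).obj F) : AddCommGrpCat.{u + 1})) :
    ClSub.IsProperOver (X := pullback f ξ) (pullback.snd f ξ)
      (EtShriek.sectSupp ((EtCoh.pull (pullback.fst f ξ)).obj F) (EtCoh.top (pullback f ξ))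
        (shriekPhi f F ξ a)) := by
  obtain ⟨V, t, s, rfl⟩ := exists_germ_eq ξ ((shriek f).obj F) a
  rw [shriekPhi_germ]
  exact properOver_fibSect f (IsPullback.of_hasPullback f ξ) t (mem_shriekSubgroup.1 s.2)

theorem exists_shriekPhi [IsSeparated f]
    (σ : EtCoh.sect ((EtCoh.pull (pullback.fst f ξ)).obj F) (EtCoh.top (pullback f ξ)))
    (hσ : ClSub.IsProperOver (X := pullback f ξ) (pullback.snd f ξ)
      (EtShriek.sectSupp ((EtCoh.pull (pullback.fst f ξ)).obj F) (EtCoh.top (pullback f ξ)) σ)) :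
    ∃ a, shriekPhi f F ξ a = σ := by
  obtain ⟨V, t, s, hs, rfl⟩ := lifts f ξ (pullback.fst f ξ) (pullback.snd f ξ) (IsPullback.of_hasPullback f ξ) F σ hσ
  exact ⟨germ ξ ((shriek f).obj F) t ⟨s, mem_shriekSubgroup.2 hs⟩, shriekPhi_germ f F ξ t _⟩

theorem range_shriekPhi [IsSeparated f] :
    EtShriek.H0c (pullback.snd f ξ) ((EtCoh.pull (pullback.fst f ξ)).obj F) = (shriekPhi f F ξ).hom.range := by
  have : LocallyOfFiniteType (pullback.snd f ξ) := MorphismProperty.pullback_snd (P := @LocallyOfFiniteType) f ξ ‹_›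
  refine le_antisymm ((AddSubgroup.closure_le _).2 ?_) ?_
  · rintro σ ⟨Z, hsub, hZ⟩
    exact exists_shriekPhi f F ξ σ (Coh69.PO.mono hZ (isClosed_sectSupp _ _) hsub)
  · rintro _ ⟨a, rfl⟩
    exact AddSubgroup.subset_closure ⟨_, subset_rfl, properOver_shriekPhi f F ξ a⟩

/-- The stalk of the direct image with proper support is the group of sections with compact support. -/
theorem nonempty_stalk_iso [IsSeparated f] :
    Nonempty ((EtCoh.stalk ξ).obj ((EtShriek.lowerShriek f).obj F) ≅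
      AddCommGrpCat.of (EtShriek.H0c (pullback.snd f ξ) ((EtCoh.pull (pullback.fst f ξ)).obj F))) := by
  have e : (EtCoh.stalk ξ).obj ((EtShriek.lowerShriek f).obj F) ≅ (EtCoh.stalk ξ).obj ((shriek f).obj F) :=
    (EtCoh.stalk ξ).mapIso ((lowerShriekIso f).app F)
  rw [range_shriekPhi]
  exact ⟨e ≪≫ AddEquiv.toAddCommGrpIso (AddMonoidHom.ofInjective (shriekPhi_injective f F ξ))⟩

variable {X' Y' : Scheme.{u}} (g : Y' ⟶ Y) (f' : X' ⟶ Y') (g' : X' ⟶ X)

omit [LocallyOfFiniteType f] in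
theorem compE_fibSect_bcSect (h : IsPullback g' f' f g) [LocallyOfFiniteType f'] {η : Spec (CommRingCat.of Ω) ⟶ Y'}
    {W : Scheme.{u}} {p' : W ⟶ X'} {q' : W ⟶ Spec (CommRingCat.of Ω)} (hw' : p' ≫ f' = q' ≫ η)
    (hw : (p' ≫ g') ≫ f = q' ≫ η ≫ g) {V : Y.Etale} (t : Pt (η ≫ g) V) (s : EtCoh.sect F ((EtCoh.bc f).obj V)) :
    (compE p' g' (rfl : p' ≫ g' = p' ≫ g') F).hom.hom.app (op (EtCoh.top W))
        (fibSect f' hw' ((EtCoh.pull g').obj F) (ptUp g η t) (bcSect f g f' g' h.w F V s)) =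
      fibSect f hw F t s := by
  let cmp := EtCore45.bcCmp f g f' g' h.w V
  let l := fibLift f' hw' (ptUp g η t) ≫ cmp.left
  have hl : l ≫ ((EtCoh.bc g').obj ((EtCoh.bc f).obj V)).hom = p' :=
    (Category.assoc _ _ _).trans ((congrArg (_ ≫ ·) (MorphismProperty.Over.w cmp)).trans (fibLift_w f' hw' _))
  have e : l ≫ pullback.fst ((EtCoh.bc f).obj V).hom g' = fibLift f hw t := by
    refine pullback.hom_ext ?_ ?_
    · show ((fibLift f' hw' (ptUp g η t) ≫ cmp.left) ≫ _) ≫ _ = _
      rw [Category.assoc, Category.assoc]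
      refine (congrArg (_ ≫ ·) (EtCore45.bcCmp_fst f g f' g' h.w V)).trans ?_
      refine (Category.assoc _ _ _).symm.trans ((congrArg (· ≫ pullback.fst V.hom g) (fibLift_prV f' hw' (ptUp g η t))).trans ?_)
      refine (Category.assoc _ _ _).trans ?_
      exact (congrArg (q' ≫ ·) (pullback.lift_fst _ _ _)).trans (fibLift_prV f hw t).symm
    · refine (Category.assoc _ _ _).trans ((congrArg (l ≫ ·) pullback.condition).trans ?_)
      refine (Category.assoc _ _ _).symm.trans ?_
      exact (congrArg (· ≫ g') hl).trans (fibLift_w f hw t).symm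
  have hl3 : (l ≫ pullback.fst ((EtCoh.bc f).obj V).hom g') ≫ ((EtCoh.bc f).obj V).hom = p' ≫ g' :=
    (congrArg (· ≫ _) e).trans (fibLift_w f hw t)
  have h1 : fibSect f' hw' ((EtCoh.pull g').obj F) (ptUp g η t) (bcSect f g f' g' h.w F V s) =
      pullSect p' ((EtCoh.pull g').obj F) l hl (unitS g' F _ s) :=
    pullSect_map p' ((EtCoh.pull g').obj F) cmp _ (fibLift_w f' hw' _) hl (unitS g' F _ s)
  rw [h1]
  refine (compE_map_pullSect F p' (rfl : p' ≫ g' = p' ≫ g') l hl hl3 s).trans ?_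
  exact pullSect_congr (p' ≫ g') F e hl3 (fibLift_w f hw t) s

theorem isIso_theta' [IsSeparated f] [LocallyOfFiniteType f'] (h : IsPullback g' f' f g) :
    IsIso (theta' f g f' g' F h) := by
  refine isIso_of_stalks _ fun K _ _ η => ⟨stalk_theta'_injective f g f' g' F h η, fun b => ?_⟩
  let p' := pullback.fst f' η
  let q' := pullback.snd f' η
  have sq : IsPullback (p' ≫ g') q' f (η ≫ g) := (IsPullback.of_hasPullback f' η).paste_horiz h
  obtain ⟨σ, hσ⟩ : ∃ σ, (compE p' g' (rfl : p' ≫ g' = p' ≫ g') F).hom.hom.app (op (EtCoh.top (pullback f' η)))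
      (shriekPhi f' ((EtCoh.pull g').obj F) η b) = σ := ⟨_, rfl⟩
  have hσp : ClSub.IsProperOver (X := pullback f' η) q'
      (EtShriek.sectSupp ((EtCoh.pull (p' ≫ g')).obj F) (EtCoh.top (pullback f' η)) σ) := by
    rw [← hσ, sectSupp_app_of_injective (compE p' g' (rfl : p' ≫ g' = p' ≫ g') F).hom
      fun V => (PBC20.bijective_iso_app (compE p' g' (rfl : p' ≫ g' = p' ≫ g') F) V).1]
    exact properOver_shriekPhi f' ((EtCoh.pull g').obj F) η b
  obtain ⟨V, t, s, hs, hsσ⟩ := lifts f (η ≫ g) (p' ≫ g') q' sq F σ hσp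
  let a : EtCoh.sect ((shriek f).obj F) V := ⟨s, mem_shriekSubgroup.2 hs⟩
  refine ⟨theta g η ((shriek f).obj F) (germ (η ≫ g) ((shriek f).obj F) t a), shriekPhi_injective f' _ η ?_⟩
  refine (PBC20.bijective_iso_app (compE p' g' (rfl : p' ≫ g' = p' ≫ g') F) (EtCoh.top (pullback f' η))).1 ?_
  rw [hσ, stalk_theta'_germ, shriekPhi_germ, chi_app]
  exact (compE_fibSect_bcSect f F g f' g' h (pullback.condition (f := f') (g := η)) sq.w t s).trans hsσ

/-- Base change for the direct image with proper support. -/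
theorem nonempty_baseChange_iso [IsSeparated f] (h : IsPullback g' f' f g) :
    Nonempty ((EtShriek.lowerShriek f').obj ((EtCoh.pull g').obj F) ≅
      (EtCoh.pull g).obj ((EtShriek.lowerShriek f).obj F)) := by
  have : LocallyOfFiniteType f' := MorphismProperty.of_isPullback h ‹_›
  have := isIso_theta' f F g f' g' h
  exact ⟨(lowerShriekIso f').app _ ≪≫ (asIso (theta' f g f' g' F h)).symm ≪≫
    (EtCoh.pull g).mapIso ((lowerShriekIso f).app F).symm⟩

end Groth.Agent.Shriek20
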