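import Groth.Agent.Shriek20.Pieces
import Groth.Agent.PBC51.BaseChange

/-!
Direct images with proper supports along quasi-finite morphisms followed by proper push forward.
-/

set_option autoImplicit false
set_option backward.isDefEq.respectTransparency.types false
set_option linter.unusedSectionVars false
universe u

open CategoryTheory CategoryTheory.Limits AlgebraicGeometry Opposite
open Groth.Agent.Unr55.EtSh

namespace Groth.Agent.Shriek20

variable {X Y Z X' Y' : Scheme.{u}}

/-- Higher direct images under a proper morphism vanish when cohomology of the geometric fibres does. -/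
theorem isZero_Rpush_of_fibres (f : X ⟶ Y) [IsProper f] {G : EtCoh.Ab X} (hG : EtCoh.IsTorsion G) (n : ℕ)
    (h : ∀ (K : Type u) [Field K] [IsSepClosed K] (ξ : Spec (CommRingCat.of K) ⟶ Y),
      Subsingleton (EtCoh.H (pullback f ξ) ((EtCoh.pull (pullback.fst f ξ)).obj G) n)) :
    IsZero ((EtCoh.Rpush f n).obj G) := by
  refine EtCore45.isZero_of_stalks _ fun K _ _ ξ => ?_
  obtain ⟨e⟩ := PBC51.nonempty_stalk_Rpush_proper f ξ G hG n
  have := h K ξ
  exact (AddCommGrpCat.isZero_of_subsingleton _).of_iso e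

/-- No higher direct images when the composition is quasi-finite. -/
theorem isZero_Rpush_lowerShriek (f : X ⟶ Y) (h : Y ⟶ Z) [IsSeparated f] [LocallyOfFiniteType f]
    [LocallyQuasiFinite f] [LocallyQuasiFinite (f ≫ h)] [IsProper h] {F : EtCoh.Ab X} (hF : EtCoh.IsTorsion F)
    (q : ℕ) : IsZero ((EtCoh.Rpush h (q + 1)).obj ((EtShriek.lowerShriek f).obj F)) :=
  isZero_Rpush_of_fibres h (isTorsion_lowerShriek f hF) _ fun K _ _ ξ =>
    Cons51.subsingleton_H_of_supp_closed_points (pullback.snd h ξ) _ (isClosed_supp_fibre f h F ξ) _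
      (Nat.succ_pos q)

variable (f : X ⟶ Y) (g : Y' ⟶ Y) (f' : X' ⟶ Y') (g' : X' ⟶ X)

/-- The comparison in degree zero. -/
noncomputable def pushShriekIso (w : g' ≫ f = f' ≫ g) [IsProper f] [IsProper f'] [IsSeparated g]
    [LocallyOfFiniteType g] [LocallyOfFiniteType g'] :
    EtShriek.lowerShriek g' ⋙ EtCoh.push f ≅ EtCoh.push f' ⋙ EtShriek.lowerShriek g :=
  Functor.isoWhiskerLeft _ (EtSupp91.lowerShriekIsoPush f).symm ≪≫ (EtSupp91.lowerShriekComp g' f).symm ≪≫
    eqToIso (congrArg EtShriek.lowerShriek w) ≪≫ EtSupp91.lowerShriekComp f' g ≪≫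
      Functor.isoWhiskerRight (EtSupp91.lowerShriekIsoPush f') _

/-- Direct images with proper supports along quasi-finite morphisms commute with higher direct images
under proper morphisms. -/
theorem nonempty_Rpush_lowerShriek (w : g' ≫ f = f' ≫ g) [IsProper f] [IsProper f'] [IsSeparated g]
    [LocallyOfFiniteType g] [LocallyQuasiFinite g] [IsSeparated g'] [LocallyOfFiniteType g'] [LocallyQuasiFinite g'] :
    ∀ (q : ℕ) (F : EtCoh.Ab X'), EtCoh.IsTorsion F →
      Nonempty ((EtShriek.lowerShriek g).obj ((EtCoh.Rpush f' q).obj F) ≅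
        (EtCoh.Rpush f q).obj ((EtShriek.lowerShriek g').obj F)) := by
  have : PreservesLimitsOfSize.{0, 0} (EtCoh.push f) := (EtCoh.pullPushAdj f).rightAdjoint_preservesLimits
  have : PreservesLimitsOfSize.{0, 0} (EtCoh.push f') := (EtCoh.pullPushAdj f').rightAdjoint_preservesLimits
  obtain ⟨hl', hr'⟩ := EtSupp91.lowerShriek_exact g'
  obtain ⟨hl, hr⟩ := EtSupp91.lowerShriek_exact g
  have : (EtShriek.lowerShriek g).IsLeftAdjoint := EtSupp91.lowerShriek_isLeftAdjoint g
  let η : EtShriek.lowerShriek g' ⋙ EtCoh.Rpush f 0 ≅ EtCoh.Rpush f' 0 ⋙ EtShriek.lowerShriek g :=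
    Functor.isoWhiskerLeft _ (EtCoh.push f).rightDerivedZeroIsoSelf ≪≫ pushShriekIso f g f' g' w ≪≫
      Functor.isoWhiskerRight (EtCoh.push f').rightDerivedZeroIsoSelf.symm _
  intro q
  induction q with
  | zero => exact fun F _ => ⟨(η.app F).symm⟩
  | succ q ih =>
    intro F hF
    obtain ⟨T, v, hv, hT, hq⟩ := PBC51.exists_torsion_qAcyclic hF
    let S := ShortComplex.mk v (cokernel.π v) (cokernel.condition v)
    have hS : S.ShortExact := ShortComplex.ShortExact.mk' (ShortComplex.exact_cokernel _) hv inferInstance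
    have : PreservesFiniteLimits (EtShriek.lowerShriek g') := hl'
    have : (EtShriek.lowerShriek g').Additive := Functor.additive_of_preserves_binary_products _
    have hS' : (S.map (EtShriek.lowerShriek g')).ShortExact := hS.map_of_exact _
    have hz : ∀ n, IsZero ((EtCoh.Rpush f (n + 1)).obj ((EtShriek.lowerShriek g').obj T)) := fun n =>
      isZero_Rpush_of_fibres f (isTorsion_lowerShriek g' hT) _ fun K _ _ ξ =>
        subsingleton_H_fibre f g f' g' w T hT hq ξ n
    cases q with
    | zero =>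
      obtain ⟨e⟩ := PBC51.nonempty_iso_cokernel f' hS 0 (PBC51.isZero_Rpush_of_qAcyclic f' 0 _ hq)
      obtain ⟨e'⟩ := PBC51.nonempty_iso_cokernel f hS' 0 (hz 0)
      exact ⟨(EtShriek.lowerShriek g).mapIso e ≪≫
        PreservesCokernel.iso (EtShriek.lowerShriek g) ((EtCoh.Rpush f' 0).map S.g) ≪≫
        cokernel.mapIso _ _ (η.app S.X₂).symm (η.app S.X₃).symm (η.inv.naturality S.g) ≪≫ e'.symm⟩
    | succ q =>
      obtain ⟨e⟩ := PBC51.nonempty_iso_shift f' hS (q + 1) (PBC51.isZero_Rpush_of_qAcyclic f' q _ hq)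
        (PBC51.isZero_Rpush_of_qAcyclic f' (q + 1) _ hq)
      obtain ⟨e'⟩ := PBC51.nonempty_iso_shift f hS' (q + 1) (hz q) (hz (q + 1))
      obtain ⟨c⟩ := ih (cokernel v) (Cons51.isTorsion_of_epi (cokernel.π v) hT)
      exact ⟨(EtShriek.lowerShriek g).mapIso e ≪≫ c ≪≫ e'.symm⟩

end Groth.Agent.Shriek20
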