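import Groth.Agent.Shriek20.Fibre

/-!
The base change isomorphism for direct images with proper support is compatible with base change of direct images.
-/

set_option autoImplicit false
set_option backward.isDefEq.respectTransparency.types false
universe u

open CategoryTheory CategoryTheory.Limits AlgebraicGeometry Opposite
open Groth.Agent.Unr55.EtSh Groth.Agent.EtSupp91

namespace Groth.Agent.Shriek20

variable {X Y X' Y' : Scheme.{u}} (f : X ⟶ Y) [LocallyOfFiniteType f]

/-- The canonical map to the direct image, through sections with proper support. -/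
theorem lowerShriekToPush_eq (F : EtCoh.Ab X) :
    EtShriek.lowerShriekToPush f F = ((lowerShriekIso f).app F).hom ≫ (shriekι f).app F := by
  rw [EtShriek.lowerShriekToPush, Adjunction.homEquiv_counit]
  refine ((sheafificationAdjunction Y.smallEtaleTopology AddCommGrpCat.{u + 1}).counit.naturality
    ((shriekι f).app F)).trans ?_
  simp [lowerShriekIso]
  rfl

variable (F : EtCoh.Ab X) (g : Y' ⟶ Y) (f' : X' ⟶ Y') (g' : X' ⟶ X) [LocallyOfFiniteType f']
  (h : IsPullback g' f' f g)

theorem chi_push_ι : chi f g f' g' F h ≫ (EtCoh.push g).map ((shriekι f').app ((EtCoh.pull g').obj F)) =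
    psi0 f g f' g' F h :=
  ObjectProperty.hom_ext _ (NatTrans.ext (funext fun V => ConcreteCategory.hom_ext _ _ fun s => rfl))

theorem theta'_ι : theta' f g f' g' F h ≫ (shriekι f').app ((EtCoh.pull g').obj F) =
    (EtCoh.pull g).map ((shriekι f).app F) ≫ EtCoh.baseChange0 f g f' g' h.w F := by
  apply ((EtCoh.pullPushAdj g).homEquiv _ _).injective
  rw [Adjunction.homEquiv_naturality_right, Adjunction.homEquiv_naturality_left, theta',
    Equiv.apply_symm_apply, chi_push_ι]
  rfl

theorem exists_baseChange_iso [IsSeparated f] :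
    ∃ φ : (EtCoh.pull g).obj ((EtShriek.lowerShriek f).obj F) ≅
        (EtShriek.lowerShriek f').obj ((EtCoh.pull g').obj F),
      φ.hom ≫ EtShriek.lowerShriekToPush f' ((EtCoh.pull g').obj F) =
        (EtCoh.pull g).map (EtShriek.lowerShriekToPush f F) ≫ EtCoh.baseChange0 f g f' g' h.w F := by
  have := isIso_theta' f F g f' g' h
  refine ⟨(EtCoh.pull g).mapIso ((lowerShriekIso f).app F) ≪≫ asIso (theta' f g f' g' F h) ≪≫
    ((lowerShriekIso f').app ((EtCoh.pull g').obj F)).symm, ?_⟩
  rw [lowerShriekToPush_eq, lowerShriekToPush_eq, Functor.map_comp, Category.assoc, ← theta'_ι f F g f' g' h]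
  simp

end Groth.Agent.Shriek20
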