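import Groth.Agent.Shriek20.Fibre
import Groth.Agent.Unr55.Et.FiltColimEtale
import Groth.Agent.Unr55.Et.FiltColimSite
import Mathlib.CategoryTheory.Category.ULift

/-!
Direct images with proper support commute with filtered colimits.
-/

set_option autoImplicit false
set_option backward.isDefEq.respectTransparency.types false
universe u

open CategoryTheory CategoryTheory.Limits AlgebraicGeometry Opposite
open Groth.Agent.Unr55 Groth.Agent.Unr55.EtSh Groth.Agent.EtSupp91
open Groth.Agent.EtCore45.MV (map_map)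

attribute [local instance high] CategoryStruct.toQuiver

namespace Groth.Agent.Shriek20

section Sections

variable {W : Scheme.{u}}

theorem preservesColimitsOfShape_sect (J : Type u) [SmallCategory J] [IsFiltered J] (U : W.Etale)
    [CompactSpace U.left] [QuasiSeparatedSpace U.left] :
    PreservesColimitsOfShape J (sheafToPresheaf W.smallEtaleTopology AddCommGrpCat.{u + 1} ⋙
      (evaluation _ AddCommGrpCat.{u + 1}).obj (op U) ⋙ forget AddCommGrpCat.{u + 1}) := by
  let e : J ≌ AsSmall.{u + 1} J := AsSmall.equiv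
  have : IsFiltered (AsSmall.{u + 1} J) := IsFiltered.of_equivalence e
  have := FiltColim.preservesColimitsOfShape_sections.{u + 2, u, u + 1} (D := AddCommGrpCat.{u + 1})
    W.smallEtaleTopology (AsSmall.{u + 1} J) (FiltColim.qcqs_of_compactSpace U)
  have h : PreservesColimitsOfShape (AsSmall.{u + 1} J)
      ((sheafToPresheaf W.smallEtaleTopology AddCommGrpCat.{u + 1} ⋙
        (evaluation _ AddCommGrpCat.{u + 1}).obj (op U)) ⋙ forget AddCommGrpCat.{u + 1}) := inferInstance
  exact @preservesColimitsOfShape_of_equiv _ _ _ _ _ _ _ _ e.symm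
    (sheafToPresheaf W.smallEtaleTopology AddCommGrpCat.{u + 1} ⋙
      (evaluation _ AddCommGrpCat.{u + 1}).obj (op U) ⋙ forget AddCommGrpCat.{u + 1}) h

variable {J : Type u} [SmallCategory J] [IsFiltered J] {K : J ⥤ EtCoh.Ab W} {c : Cocone K}

theorem exists_sect (hc : IsColimit c) (U : W.Etale) [CompactSpace U.left] [QuasiSeparatedSpace U.left]
    (s : EtCoh.sect c.pt U) : ∃ (j : J) (a : EtCoh.sect (K.obj j) U), (c.ι.app j).hom.app (op U) a = s := by
  have := preservesColimitsOfShape_sect J U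
  exact Types.jointly_surjective _ (isColimitOfPreserves (sheafToPresheaf W.smallEtaleTopology
    AddCommGrpCat.{u + 1} ⋙ (evaluation _ AddCommGrpCat.{u + 1}).obj (op U) ⋙ forget AddCommGrpCat.{u + 1}) hc) s

theorem exists_sect_zero (hc : IsColimit c) (U : W.Etale) [CompactSpace U.left] [QuasiSeparatedSpace U.left]
    {j : J} (a : EtCoh.sect (K.obj j) U) (h : (c.ι.app j).hom.app (op U) a = 0) :
    ∃ (k : J) (g : j ⟶ k), (K.map g).hom.app (op U) a = 0 := by
  have := preservesColimitsOfShape_sect J U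
  obtain ⟨k, g, g', hk⟩ := (Types.FilteredColimit.isColimit_eq_iff _ (isColimitOfPreserves
    (sheafToPresheaf W.smallEtaleTopology AddCommGrpCat.{u + 1} ⋙
      (evaluation _ AddCommGrpCat.{u + 1}).obj (op U) ⋙ forget AddCommGrpCat.{u + 1}) hc)
    (xi := a) (xj := (0 : EtCoh.sect (K.obj j) U))).1
      (h.trans (map_zero ((c.ι.app j).hom.app (op U)).hom).symm)
  exact ⟨k, g, hk.trans (map_zero ((K.map g').hom.app (op U)).hom)⟩

/-- Extension by zero of a section of an open subscheme with closed support. -/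
theorem exists_extend (G : EtCoh.Ab W) {U : W.Etale} (O : U.left.Opens) {Z : Set U.left} (hZ : IsClosed Z)
    (hZO : Z ⊆ O) (τ : EtCoh.sect G (openSub U O))
    (hτ : ∀ o : (openSub U O).left, (openSubι U O).left o ∉ Z → o ∈ vanishing G τ) :
    ∃ b : EtCoh.sect G U, G.obj.map (openSubι U O).op b = τ ∧ EtShriek.sectSupp G U b ⊆ Z := by
  classical
  let O' : U.left.Opens := ⟨Zᶜ, hZ.isOpen_compl⟩
  let P : ∀ {V : W.Etale}, (V ⟶ U) → Prop := fun {V} g => ∃ m : V ⟶ openSub U O, m ≫ openSubι U O = g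
  let Q : ∀ {V : W.Etale}, (V ⟶ U) → Prop := fun {V} g => ∃ m : V ⟶ openSub U O', m ≫ openSubι U O' = g
  let S : Sieve U :=
    { arrows := fun V g => P g ∨ Q g
      downward_closed := fun {V V' g} hg k => hg.imp
        (fun ⟨m, hm⟩ => ⟨k ≫ m, (Category.assoc _ _ _).trans (congrArg (k ≫ ·) hm)⟩)
        (fun ⟨m, hm⟩ => ⟨k ≫ m, (Category.assoc _ _ _).trans (congrArg (k ≫ ·) hm)⟩) }
  have hS : S ∈ W.smallEtaleTopology U := mem_topology fun x => by
    by_cases hx : x ∈ Z
    · obtain ⟨o, ho⟩ := (range_openSubι U O).ge (hZO hx)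
      exact ⟨_, openSubι U O, o, Or.inl ⟨𝟙 _, Category.id_comp _⟩, ho⟩
    · obtain ⟨o, ho⟩ := (range_openSubι U O').ge (show x ∈ O' from hx)
      exact ⟨_, openSubι U O', o, Or.inr ⟨𝟙 _, Category.id_comp _⟩, ho⟩
  have uniq : ∀ {V : W.Etale} (m m' : V ⟶ openSub U O),
      m ≫ openSubι U O = m' ≫ openSubι U O → m = m' := fun {V} m m' e =>
    MorphismProperty.Over.Hom.ext ((cancel_mono O.ι).1 (congrArg (fun k => k.left) e : _))
  have hzero : ∀ {V : W.Etale} (m : V ⟶ openSub U O) (m' : V ⟶ openSub U O'),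
      m ≫ openSubι U O = m' ≫ openSubι U O' → G.obj.map m.op τ = 0 := fun {V} m m' e => by
    refine (map_eq_zero_iff_range_le G τ m).2 ?_
    rintro _ ⟨v, rfl⟩
    refine hτ _ ?_
    have e' : (openSubι U O).left (m.left v) = (openSubι U O').left (m'.left v) :=
      ((Scheme.Hom.comp_apply _ _ v).symm.trans (congrArg (fun k => k.left v) e)).trans
        (Scheme.Hom.comp_apply _ _ v)
    rw [e']
    exact (range_openSubι U O').le ⟨_, rfl⟩
  let x : Presieve.FamilyOfElements (G.obj ⋙ forget AddCommGrpCat.{u + 1}) S.arrows := fun V g _ =>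
    if h : P g then G.obj.map h.choose.op τ else (0 : EtCoh.sect G V)
  have val : ∀ {V : W.Etale} (g : V ⟶ U) (hg : S g) {T : W.Etale} (k : T ⟶ V),
      (∀ m : T ⟶ openSub U O, m ≫ openSubι U O = k ≫ g → G.obj.map k.op (x g hg) = G.obj.map m.op τ) ∧
      (∀ m : T ⟶ openSub U O', m ≫ openSubι U O' = k ≫ g → G.obj.map k.op (x g hg) = (0 : EtCoh.sect G T)) := by
    intro V g hg T k
    by_cases h : P g
    · have ex : x g hg = G.obj.map h.choose.op τ := dif_pos h
      refine ⟨fun m hm => ?_, fun m hm => ?_⟩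
      · rw [ex, map_map, uniq (k ≫ h.choose) m (by rw [Category.assoc, h.choose_spec, hm])]
      · rw [ex, map_map]
        exact hzero _ m (by rw [Category.assoc, h.choose_spec, hm])
    · have ex : x g hg = (0 : EtCoh.sect G V) := dif_neg h
      refine ⟨fun m hm => ?_, fun m hm => ?_⟩
      · obtain ⟨m', hm'⟩ := hg.resolve_left h
        rw [ex, map_zero]
        exact (hzero m (k ≫ m') (hm.trans ((congrArg (k ≫ ·) hm'.symm).trans (Category.assoc _ _ _).symm))).symm
      · rw [ex, map_zero]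
  have hx : x.Compatible := fun Y₁ Y₂ V g₁ g₂ f₁ f₂ h₁ h₂ w => by
    show G.obj.map g₁.op (x f₁ h₁) = G.obj.map g₂.op (x f₂ h₂)
    rcases id h₁ with ⟨m, hm⟩ | ⟨m, hm⟩
    · rw [(val f₁ h₁ g₁).1 (g₁ ≫ m) (by rw [Category.assoc, hm]),
        (val f₂ h₂ g₂).1 (g₁ ≫ m) (by rw [Category.assoc, hm, w])]
    · rw [(val f₁ h₁ g₁).2 (g₁ ≫ m) (by rw [Category.assoc, hm]),
        (val f₂ h₂ g₂).2 (g₁ ≫ m) (by rw [Category.assoc, hm, w])]
  obtain ⟨b, hb, -⟩ := isSheafFor_forget G hS x hx
  have hO : S (openSubι U O) := Or.inl ⟨𝟙 _, Category.id_comp _⟩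
  have hO' : S (openSubι U O') := Or.inr ⟨𝟙 _, Category.id_comp _⟩
  refine ⟨b, ?_, fun y hy => ?_⟩
  · have := (val _ hO (𝟙 _)).1 (𝟙 _) rfl
    simp only [op_id, CategoryTheory.Functor.map_id, ConcreteCategory.id_apply] at this
    exact (hb _ hO).trans this
  · by_contra hyZ
    have := (val _ hO' (𝟙 _)).2 (𝟙 _) rfl
    simp only [op_id, CategoryTheory.Functor.map_id, ConcreteCategory.id_apply] at this
    rw [EtCore45.sectSupp_eq] at hy
    exact hy (range_le_vanishing G b _ ((hb _ hO').trans this) ((range_openSubι U O').ge hyZ))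

end Sections

section Fibre

variable {Ω : Type u} [Field Ω] {W : Scheme.{u}} (q : W ⟶ Spec (CommRingCat.of Ω)) [LocallyOfFiniteType q]
  [IsSeparated q] {J : Type u} [SmallCategory J] [IsFiltered J] {K : J ⥤ EtCoh.Ab W} {c : Cocone K}

theorem isCompact_of_isProperOver {Z : Set W} (h : ClSub.IsProperOver q Z) : IsCompact Z := by
  obtain ⟨hcl, hp⟩ := h
  let i := (Scheme.IdealSheafData.vanishingIdeal (X := W) ⟨_, hcl⟩).subschemeι
  have : IsProper (i ≫ q) := hp
  have := QuasiCompact.compactSpace_of_compactSpace (i ≫ q)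
  have e : Set.range i = Z := SchBasics.range_vanishingIdeal_subschemeι ⟨Z, hcl⟩
  exact e ▸ isCompact_range i.continuous

theorem exists_nbhd {Z : Set (EtCoh.top W).left} (h : ClSub.IsProperOver (X := W) q Z) :
    ∃ O : (EtCoh.top W).left.Opens, Z ⊆ O ∧ CompactSpace (openSub (EtCoh.top W) O).left ∧
      QuasiSeparatedSpace (openSub (EtCoh.top W) O).left ∧
      TopologicalSpace.NoetherianSpace (openSub (EtCoh.top W) O).left := by
  obtain ⟨O, hO, hZO, -⟩ := exists_compact_opens_between (A := W) (isCompact_of_isProperOver q h) ⊤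
    (Set.subset_univ Z)
  have : CompactSpace O.toScheme := isCompact_iff_compactSpace.1 hO
  have : IsLocallyNoetherian W := LocallyOfFiniteType.isLocallyNoetherian q
  have : IsNoetherian O.toScheme := { }
  have : QuasiSeparatedSpace W := quasiSeparatedSpace_of_quasiSeparated q
  have : QuasiSeparatedSpace O.toScheme := O.ι.isOpenEmbedding.quasiSeparatedSpace
  exact ⟨O, hZO, ‹_›, ‹_›, inferInstanceAs (TopologicalSpace.NoetherianSpace O.toScheme)⟩

theorem supp_zero {G : EtCoh.Ab W} {U : W.Etale} (a : EtCoh.sect G U) (O : U.left.Opens)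
    (h : G.obj.map (openSubι U O).op a = 0) {Z : Set U.left} (hZ : EtShriek.sectSupp G U a ⊆ Z)
    (hZO : Z ⊆ O) : a = 0 := by
  refine PBC20.eq_zero_of_vanishing G a fun x => ?_
  by_contra hx
  have hxZ : x ∈ Z := hZ (by rw [EtCore45.sectSupp_eq]; exact hx)
  exact hx (range_le_vanishing G a _ h ((range_openSubι U O).ge (hZO hxZ)))

/-- A section with proper support vanishing in the colimit vanishes at a later stage. -/
theorem exists_zero_of_proper (hc : IsColimit c) {j : J} (a : EtCoh.sect (K.obj j) (EtCoh.top W))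
    (ha : ClSub.IsProperOver (X := W) q (EtShriek.sectSupp (K.obj j) (EtCoh.top W) a))
    (h : (c.ι.app j).hom.app (op (EtCoh.top W)) a = 0) :
    ∃ (k : J) (g : j ⟶ k), (K.map g).hom.app (op (EtCoh.top W)) a = 0 := by
  obtain ⟨O, hZO, hC, hQ, -⟩ := exists_nbhd q ha
  obtain ⟨k, g, hk⟩ := exists_sect_zero hc (openSub (EtCoh.top W) O)
    ((K.obj j).obj.map (openSubι _ O).op a) (by rw [app_map_eq, h, map_zero])
  refine ⟨k, g, supp_zero _ O ?_ (EtShriek.sectSupp_map_subset (K.map g) _ a) hZO⟩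
  rw [← app_map_eq, hk]

/-- Sections with proper support of a filtered colimit come from a stage. -/
theorem exists_of_proper (hc : IsColimit c) (s : EtCoh.sect c.pt (EtCoh.top W))
    (hs : ClSub.IsProperOver (X := W) q (EtShriek.sectSupp c.pt (EtCoh.top W) s)) :
    ∃ (j : J) (a : EtCoh.sect (K.obj j) (EtCoh.top W)),
      ClSub.IsProperOver (X := W) q (EtShriek.sectSupp (K.obj j) (EtCoh.top W) a) ∧
      (c.ι.app j).hom.app (op (EtCoh.top W)) a = s := by
  set Z := EtShriek.sectSupp c.pt (EtCoh.top W) s with hZ'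
  have hZ : IsClosed Z := isClosed_sectSupp _ _
  obtain ⟨O, hZO, hC, hQ, hN⟩ := exists_nbhd q hs
  let ι := openSubι (EtCoh.top W) O
  obtain ⟨j, τ, hτ⟩ := exists_sect hc (openSub _ O) (c.pt.obj.map ι.op s)
  let P : (openSub (EtCoh.top W) O).left.Opens := ⟨ι.left ⁻¹' Zᶜ, hZ.isOpen_compl.preimage ι.left.continuous⟩
  have hPC : CompactSpace (openSub (openSub (EtCoh.top W) O) P).left :=
    isCompact_iff_compactSpace.1 (@TopologicalSpace.NoetherianSpace.isCompact _ _ hN (P : Set _))
  have hPQ : QuasiSeparatedSpace (openSub (openSub (EtCoh.top W) O) P).left :=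
    P.ι.isOpenEmbedding.quasiSeparatedSpace
  obtain ⟨k, g, hk⟩ := exists_sect_zero hc (openSub _ P) ((K.obj j).obj.map (openSubι _ P).op τ) (by
    refine (app_map_eq (c.ι.app j) (openSubι _ P) τ).trans ((congrArg _ hτ).trans ?_)
    refine (map_map c.pt _ _ s).trans ?_
    refine (map_eq_zero_iff_range_le c.pt s _).2 ?_
    rintro _ ⟨y, rfl⟩
    have hy : ι.left ((openSubι _ P).left y) ∉ Z := (range_openSubι _ P).le ⟨y, rfl⟩
    rw [hZ', EtCore45.sectSupp_eq] at hy
    exact not_not.1 hy)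
  rw [app_map_eq] at hk
  obtain ⟨b, hb, hbZ⟩ := exists_extend (K.obj k) O hZ hZO ((K.map g).hom.app (op (openSub _ O)) τ)
    fun o ho => range_le_vanishing _ _ _ hk ((range_openSubι _ P).ge ho)
  refine ⟨k, b, Coh69.PO.mono hs (isClosed_sectSupp _ _) hbZ, ?_⟩
  refine sub_eq_zero.1 (supp_zero _ O ?_ (fun x hx => ?_) hZO)
  · rw [map_sub, ← app_map_eq, hb, sub_eq_zero]
    exact (ConcreteCategory.congr_hom (congrArg (fun m => m.hom.app (op (openSub _ O))) (c.w g)) τ).trans hτ
  · rcases EtSupp91.sectSupp_sub _ _ _ hx with hx | hx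
    · exact hbZ (EtShriek.sectSupp_map_subset (c.ι.app k) _ b hx)
    · exact hx

end Fibre

variable {X Y : Scheme.{u}} (f : X ⟶ Y) [LocallyOfFiniteType f]
  {Ω : Type u} [Field Ω] [IsSepClosed Ω] (ξ : Spec (CommRingCat.of Ω) ⟶ Y)

theorem shriekPhi_natural {F G : EtCoh.Ab X} (φ : F ⟶ G)
    (a : ((EtCoh.stalk ξ).obj ((shriek f).obj F) : AddCommGrpCat.{u + 1})) :
    shriekPhi f G ξ ((EtCoh.stalk ξ).map ((shriek f).map φ) a) =
      ((EtCoh.pull (pullback.fst f ξ)).map φ).hom.app (op (EtCoh.top (pullback f ξ))) (shriekPhi f F ξ a) := by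
  obtain ⟨V, t, s, rfl⟩ := exists_germ_eq ξ ((shriek f).obj F) a
  rw [stalk_map_germ, shriekPhi_germ, shriekPhi_germ, pullSect_natural]
  rfl

theorem preservesColimitsOfShape_shriek [IsSeparated f] (J : Type u) [SmallCategory J] [IsFiltered J] :
    PreservesColimitsOfShape J (shriek f) := by
  refine ⟨fun {K} => ⟨fun {c} hc => ?_⟩⟩
  let d := colimit.cocone (K ⋙ shriek f)
  let δ : d.pt ⟶ (shriek f).obj c.pt := (colimit.isColimit (K ⋙ shriek f)).desc ((shriek f).mapCocone c)
  suffices h : IsIso δ from ⟨(colimit.isColimit (K ⋙ shriek f)).ofPointIso (i := h)⟩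
  refine isIso_of_stalks _ fun L _ _ η => ?_
  have : LocallyOfFiniteType (pullback.snd f η) := MorphismProperty.pullback_snd (P := @LocallyOfFiniteType) f η ‹_›
  have hp : IsColimit ((EtCoh.pull (pullback.fst f η)).mapCocone c) :=
    @isColimitOfPreserves _ _ _ _ _ _ K (EtCoh.pull (pullback.fst f η)) c
      hc (((EtCoh.pullPushAdj (pullback.fst f η)).leftAdjoint_preservesColimits.preservesColimitsOfShape).preservesColimit)
  have hd := isColimitOfPreserves (forget AddCommGrpCat.{u + 1})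
    (isColimitOfPreserves (EtCoh.stalk η) (colimit.isColimit (K ⋙ shriek f)))
  have hδ : ∀ (j : J) (a : ((EtCoh.stalk η).obj ((shriek f).obj (K.obj j)) : AddCommGrpCat.{u + 1})),
      (EtCoh.stalk η).map δ ((EtCoh.stalk η).map (d.ι.app j) a) =
        (EtCoh.stalk η).map ((shriek f).map (c.ι.app j)) a := fun j a => by
    rw [← ConcreteCategory.comp_apply, ← Functor.map_comp]
    exact ConcreteCategory.congr_hom (congrArg (EtCoh.stalk η).map
      ((colimit.isColimit (K ⋙ shriek f)).fac ((shriek f).mapCocone c) j)) a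
  refine ⟨(injective_iff_map_eq_zero ((EtCoh.stalk η).map δ).hom).2 fun b hb => ?_, fun b => ?_⟩
  · obtain ⟨j, a, rfl⟩ := Types.jointly_surjective _ hd b
    have h0 : (EtCoh.stalk η).map ((shriek f).map (c.ι.app j)) a = 0 := (hδ j a).symm.trans hb
    obtain ⟨k, g, hk⟩ := exists_zero_of_proper (pullback.snd f η) hp (shriekPhi f (K.obj j) η a)
      (properOver_shriekPhi f (K.obj j) η a)
      ((shriekPhi_natural f η (c.ι.app j) a).symm.trans ((congrArg _ h0).trans (map_zero _)))
    have ha : (EtCoh.stalk η).map ((shriek f).map (K.map g)) a = 0 :=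
      shriekPhi_injective f (K.obj k) η
        (((shriekPhi_natural f η (K.map g) a).trans hk).trans (map_zero _).symm)
    show (EtCoh.stalk η).map (d.ι.app j) a = 0
    rw [← d.w g]
    rw [Functor.map_comp, ConcreteCategory.comp_apply]
    exact (congrArg _ ha).trans (map_zero _)
  · obtain ⟨j, σ, hσ, hσe⟩ := exists_of_proper (pullback.snd f η) hp (shriekPhi f c.pt η b)
      (properOver_shriekPhi f c.pt η b)
    obtain ⟨a, ha⟩ := exists_shriekPhi f (K.obj j) η σ hσ
    refine ⟨(EtCoh.stalk η).map (d.ι.app j) a, (hδ j a).trans (shriekPhi_injective f c.pt η ?_)⟩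
    rw [shriekPhi_natural, ha]
    exact hσe

theorem preservesFilteredColimits_lowerShriek [IsSeparated f] :
    PreservesFilteredColimitsOfSize.{u, u} (EtShriek.lowerShriek f) :=
  ⟨fun J _ _ => have := preservesColimitsOfShape_shriek f J
    preservesColimitsOfShape_of_natIso (lowerShriekIso f).symm⟩

end Groth.Agent.Shriek20
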