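import Groth.Agent.Shriek20.Fibre

/-!
Direct images with proper support are left exact.
-/

set_option autoImplicit false
set_option backward.isDefEq.respectTransparency.types false
universe u

open CategoryTheory CategoryTheory.Limits AlgebraicGeometry Opposite
open Groth.Agent.Unr55.EtSh Groth.Agent.EtSupp91

namespace Groth.Agent.Shriek20

variable {X Y : Scheme.{u}} (f : X ⟶ Y) [LocallyOfFiniteType f]

instance additive_shriek : (shriek f).Additive where
  map_add {F G φ ψ} :=
    ObjectProperty.hom_ext _ (NatTrans.ext (funext fun V => ConcreteCategory.hom_ext _ _ fun s => Subtype.ext rfl))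

/-- A monomorphism reflects proper support. -/
theorem properSupp_of_app {F G : EtCoh.Ab X} (φ : F ⟶ G) [Mono φ] {V : Y.Etale}
    (s : EtCoh.sect F ((EtCoh.bc f).obj V)) (hs : ProperSupp f G V (φ.hom.app _ s)) : ProperSupp f F V s := by
  unfold ProperSupp at *
  rwa [← sectSupp_app_of_injective φ (fun U => sect_injective_of_mono φ U)]

theorem preservesKernel_shriek {F G : EtCoh.Ab X} (φ : F ⟶ G) :
    PreservesLimit (parallelPair φ 0) (shriek f) := by
  have hP : IsLimit (KernelFork.ofι ((EtCoh.push f).map (kernel.ι φ))
      (show (EtCoh.push f).map (kernel.ι φ) ≫ (EtCoh.push f).map φ = 0 by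
        rw [← Functor.map_comp, kernel.condition, Functor.map_zero])) :=
    (KernelFork.ofι (kernel.ι φ) (kernel.condition φ)).isLimitMapConeEquiv _
      (isLimitOfPreserves (EtCoh.push f) (kernelIsKernel φ))
  refine preservesLimit_of_preserves_limit_cone (kernelIsKernel φ) ?_
  refine ((KernelFork.ofι (kernel.ι φ) (kernel.condition φ)).isLimitMapConeEquiv (shriek f)).symm ?_
  have : Mono ((EtCoh.push f).map (kernel.ι φ)) := inferInstance
  have : Mono ((shriek f).map (kernel.ι φ)) := by
    have := (shriekι f).naturality (kernel.ι φ)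
    have : Mono ((shriek f).map (kernel.ι φ) ≫ (shriekι f).app F) := by
      rw [this]; infer_instance
    exact mono_of_mono _ ((shriekι f).app F)
  have key : ∀ {A : EtCoh.Ab Y} (t : A ⟶ (shriek f).obj F), t ≫ (shriek f).map φ = 0 →
      { l : A ⟶ (shriek f).obj (kernel φ) // l ≫ (shriek f).map (kernel.ι φ) = t } := fun {A} t ht => by
    have hc : (t ≫ (shriekι f).app F) ≫ (EtCoh.push f).map φ = 0 := by
      rw [Category.assoc, ← (shriekι f).naturality φ, reassoc_of% ht, zero_comp]
    obtain ⟨l, hl⟩ := KernelFork.IsLimit.lift' hP (t ≫ (shriekι f).app F) hc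
    have e : ∀ (V : Y.Etale) (a : A.obj.obj (op V)),
        (kernel.ι φ).hom.app _ (l.hom.app (op V) a) = (t.hom.app (op V) a).1 := fun V a =>
      ConcreteCategory.congr_hom (congrArg (fun k => k.hom.app (op V)) hl) a
    refine ⟨⟨{ app := fun V => AddCommGrpCat.ofHom ((l.hom.app V).hom.codRestrict
          (EtShriek.shriekSubgroup f (kernel φ) V.unop) fun a => mem_shriekSubgroup.2 ?_)
               naturality := fun V W q => ConcreteCategory.hom_ext _ _ fun a =>
                 Subtype.ext (NatTrans.naturality_apply l.hom q a) }⟩, ?_⟩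
    · refine properSupp_of_app f (kernel.ι φ) _ ?_
      exact (e V.unop a).symm ▸ mem_shriekSubgroup.1 (t.hom.app V a).2
    · exact ObjectProperty.hom_ext _ (NatTrans.ext (funext fun V => ConcreteCategory.hom_ext _ _ fun a =>
        Subtype.ext (e V.unop a)))
  exact KernelFork.IsLimit.ofι ((shriek f).map (kernel.ι φ))
    (by rw [← Functor.map_comp, kernel.condition, Functor.map_zero]) (fun t ht => (key t ht).1) (fun t ht => (key t ht).2)
    (fun t ht b hb => (cancel_mono ((shriek f).map (kernel.ι φ))).1 (hb.trans (key t ht).2.symm))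

theorem preservesFiniteLimits_shriek : PreservesFiniteLimits (shriek f) := by
  have : ∀ {F G : EtCoh.Ab X} (φ : F ⟶ G), PreservesLimit (parallelPair φ 0) (shriek f) :=
    fun φ => preservesKernel_shriek f φ
  exact Functor.preservesFiniteLimits_of_preservesKernels _

theorem preservesFiniteLimits_lowerShriek : PreservesFiniteLimits (EtShriek.lowerShriek f) :=
  have := preservesFiniteLimits_shriek f
  preservesFiniteLimits_of_natIso (lowerShriekIso f).symm

end Groth.Agent.Shriek20
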