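import Groth.Agent.Shriek20.Lifts
import Groth.Agent.Cons51.ProperBC0

/-!
Inheritance of the lifting property.
-/

set_option autoImplicit false
set_option backward.isDefEq.respectTransparency.types false
universe u

open CategoryTheory CategoryTheory.Limits AlgebraicGeometry Opposite
open Groth.Agent.Unr55.EtSh Groth.Agent.EtSupp91
open Groth.Agent.EtCore45 (bcCmp bcCmp_fst unit_bc0_app)
open Groth.Agent.PBC20 (unitS compE unitTop mtop)
open Groth.Agent.EtCore45.MV (map_map map_endo)

attribute [local instance high] CategoryStruct.toQuiver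

namespace Groth.Agent.Shriek20

theorem bcTopIso_left {U X : Scheme.{u}} (j : U ⟶ X) :
    (EtCore.bcTopIso j).hom.left ≫ j = EtShriek.prV j (EtCoh.top X) ∧
      (EtCore.bcTopIso j).inv.left ≫ EtShriek.prV j (EtCoh.top X) = j ∧
      IsIso (EtCore.bcTopIso j).hom.left := by
  let i := EtCore.bcTopIso j
  have hid : i.inv.left ≫ i.hom.left = 𝟙 U :=
    congrArg (fun k : EtCoh.top U ⟶ EtCoh.top U => k.left) i.inv_hom_id
  have h1 : EtShriek.prV j (EtCoh.top X) = pullback.snd (EtCoh.top X).hom j ≫ j :=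
    (Category.comp_id _).symm.trans pullback.condition
  have h2 : i.hom.left ≫ j = EtShriek.prV j (EtCoh.top X) := by
    refine Eq.trans ?_ h1.symm
    exact congrArg (· ≫ j) ((Category.comp_id _).symm.trans (MorphismProperty.Over.w i.hom))
  refine ⟨h2, ?_, ⟨i.inv.left, ?_, hid⟩⟩
  · refine (congrArg (i.inv.left ≫ ·) h2.symm).trans ((Category.assoc _ _ _).symm.trans ?_)
    exact (congrArg (· ≫ j) hid).trans (Category.id_comp j)
  · exact congrArg (fun k : (EtCoh.bc j).obj (EtCoh.top X) ⟶ _ => k.left) i.hom_inv_id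

theorem mem_vanishing_push {A B : Scheme.{u}} (f : A ⟶ B) (G : EtCoh.Ab A) (U : B.Etale)
    (s : EtCoh.sect G ((EtCoh.bc f).obj U)) (y : ((EtCoh.bc f).obj U).left)
    (h : EtShriek.prV f U y ∈ vanishing ((EtCoh.push f).obj G) (U := U) s) : y ∈ vanishing G s := by
  let O := vanishing ((EtCoh.push f).obj G) (U := U) s
  have h0 : G.obj.map ((EtCoh.bc f).map (openSubι U O)).op s = 0 :=
    (map_eq_zero_iff_range_le ((EtCoh.push f).obj G) (U := U) s (openSubι U O)).2 (range_openSubι U O).le
  have sq := EtCoh.isPullback_bc_map f (openSubι U O)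
  obtain ⟨o, ho⟩ := (range_openSubι U O).ge h
  obtain ⟨z, hz, -⟩ := Scheme.Pullback.exists_preimage_pullback (f := EtShriek.prV f U)
    (g := (openSubι U O).left) y o ho.symm
  exact range_le_vanishing G s _ h0 ⟨sq.isoPullback.inv z, (congr($(sq.isoPullback_inv_fst) z)).trans hz⟩

theorem mono_of_app_injective {Z : Scheme.{u}} {B C : EtCoh.Ab Z} (φ : B ⟶ C)
    (h : ∀ V, Function.Injective (φ.hom.app (op V))) : Mono φ := by
  have : ∀ V, Mono (φ.hom.app V) := fun V => (AddCommGrpCat.mono_iff_injective _).2 (h V.unop)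
  have : Mono ((sheafToPresheaf Z.smallEtaleTopology AddCommGrpCat.{u + 1}).map φ) :=
    NatTrans.mono_of_mono_app φ.hom
  exact (sheafToPresheaf Z.smallEtaleTopology AddCommGrpCat.{u + 1}).mono_of_mono_map this

theorem exists_of_cokernel_eq_zero {Z : Scheme.{u}} {B C : EtCoh.Ab Z} (φ : B ⟶ C) [Mono φ] (U : Z.Etale)
    (c : EtCoh.sect C U) (hc : (cokernel.π φ).hom.app (op U) c = 0) : ∃ b, φ.hom.app (op U) b = c := by
  have hS : (ShortComplex.mk φ (cokernel.π φ) (cokernel.condition φ)).Exact := ShortComplex.exact_cokernel φ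
  exact (ShortComplex.ab_exact_iff _).1 (hS.map_of_mono_of_preservesKernel
    (sheafToPresheaf Z.smallEtaleTopology AddCommGrpCat.{u + 1} ⋙ (evaluation _ _).obj (op U))
    inferInstance inferInstance) c hc

theorem unitTop_sub {A B : Scheme.{u}} (j : A ⟶ B) (G : EtCoh.Ab B) (a b : EtCoh.sect G (EtCoh.top B)) :
    unitTop j G (a - b) = unitTop j G a - unitTop j G b :=
  (congrArg (fun x => ((EtCoh.pull j).obj G).obj.map (mtop j).op x)
    (map_sub (((EtCoh.pullPushAdj j).unit.app G).hom.app (op (EtCoh.top B))).hom a b)).trans (map_sub _ _ _)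

variable {X Y : Scheme.{u}}

end Groth.Agent.Shriek20
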