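import Groth.Agent.Shriek20.CaseBase

/-!
Inheritance of the lifting property.
-/

set_option autoImplicit false
set_option backward.isDefEq.respectTransparency.types false
universe u

open CategoryTheory CategoryTheory.Limits AlgebraicGeometry Opposite
open Groth.Agent.Unr55.EtSh Groth.Agent.EtSupp91
open Groth.Agent.EtCore45 (bcCmp bcCmp_fst unit_bc0_app)
open Groth.Agent.PBC20 (unitS compE unitTop mtop)
open Groth.Agent.EtCore45.MV (map_map map_endo)

attribute [local instance high] CategoryStruct.toQuiver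

namespace Groth.Agent.Shriek20

variable {X Y : Scheme.{u}}

theorem lifts_openImmersion_comp {P : Scheme.{u}} (j : X ⟶ P) [IsOpenImmersion j] (fb : P ⟶ Y) [IsSeparated fb]
    [LocallyOfFiniteType fb] (hL : Lifts fb) : Lifts (j ≫ fb) := by
  intro Ω _ _ ξ W p q sq F σ hσ
  let pb := pullback.fst fb ξ
  let qb := pullback.snd fb ξ
  let j' : W ⟶ pullback fb ξ := pullback.lift (p ≫ j) q ((Category.assoc _ _ _).trans sq.w)
  have hj1 : j' ≫ pb = p ≫ j := pullback.lift_fst _ _ _
  have hj2 : j' ≫ qb = q := pullback.lift_snd _ _ _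
  have T : IsPullback p (j' ≫ qb) (j ≫ fb) ξ := by rw [hj2]; exact sq
  have sqj : IsPullback p j' j pb := T.of_bot hj1.symm (IsPullback.of_hasPullback fb ξ)
  have : IsOpenImmersion j' := MorphismProperty.of_isPullback sqj inferInstance
  have : LocallyOfFiniteType qb := MorphismProperty.pullback_snd (P := @LocallyOfFiniteType) fb ξ ‹_›
  have : IsSeparated qb := MorphismProperty.pullback_snd (P := @IsSeparated) fb ξ ‹_›
  let G := (EtCoh.pull p).obj F
  let i := EtCore.bcTopIso j'
  obtain ⟨hi₁, hi₂, hi₃⟩ := bcTopIso_left j'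
  let il : ((EtCoh.bc j').obj (EtCoh.top (pullback fb ξ))).left ⟶ W := i.hom.left
  have : IsIso il := hi₃
  have hil : IsProper il := inferInstance
  let Z₀ : Set W := EtShriek.sectSupp G (EtCoh.top W) σ
  obtain ⟨hZ₁, hZ₂⟩ : ClSub.IsProperOver j' Z₀ ∧ ClSub.IsProperOver qb (⇑j' '' Z₀) :=
    (isProperOver_comp_iff j' qb).1 (by rw [hj2]; exact hσ)
  have hc : ProperSupp j' G (EtCoh.top (pullback fb ξ)) (G.obj.map i.hom.op σ) := by
    unfold ProperSupp
    rw [sectSupp_map]
    exact @Coh69.PO.preimage _ _ _ (EtShriek.prV j' (EtCoh.top (pullback fb ξ))) j' (lft_prV j' _)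
      il hil hi₁ _ hZ₁
  let c : EtCoh.sect ((shriek j').obj G) (EtCoh.top (pullback fb ξ)) := ⟨_, mem_shriekSubgroup.2 hc⟩
  have hcsupp : EtShriek.sectSupp ((shriek j').obj G) (EtCoh.top (pullback fb ξ)) c ⊆ ⇑j' '' Z₀ := by
    rw [sectSupp_shriek]
    rintro _ ⟨y, hy, rfl⟩
    have hy' : i.hom.left y ∈ Z₀ := by
      have := hy
      rwa [show (c.1 : EtCoh.sect G _) = G.obj.map i.hom.op σ from rfl, sectSupp_map] at this
    exact ⟨_, hy', (Scheme.Hom.comp_apply _ _ y).symm.trans (congrArg (fun k => k y) hi₁)⟩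
  let θ := theta' j pb j' p F sqj
  have : Mono θ := mono_theta' j pb j' p F sqj
  have hloc : ∀ wb : (EtCoh.top (pullback fb ξ)).left, ∃ (V : (pullback fb ξ).Etale)
      (g : V ⟶ EtCoh.top (pullback fb ξ)) (v : V.left) (b : EtCoh.sect ((EtCoh.pull pb).obj ((shriek j).obj F)) V),
      g.left v = wb ∧ θ.hom.app (op V) b = ((shriek j').obj G).obj.map g.op c := by
    intro wb
    by_cases hwb : wb ∈ ⇑j' '' Z₀
    · obtain ⟨z, -, rfl⟩ := hwb
      let k0 : (EtCoh.bc p).obj (EtCoh.top X) ⟶ EtCoh.top W := (EtCore.topIsTerminal W).from _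
      obtain ⟨W₁, g₁, τ, w₁, hw₁, hτ⟩ := PBC20.exists_rep p F (U := EtCoh.top X) (G.obj.map k0.op σ) ((mtop p).left z)
      let V₁ : P.Etale := (EtShriek.compEtale j).obj W₁
      let i₁ : (EtCoh.bc j).obj V₁ ⟶ W₁ := MorphismProperty.Over.homMk (pullback.fst V₁.hom j)
        ((cancel_mono j).1 ((Category.assoc _ _ _).trans pullback.condition)) trivial
      have : IsIso (EtShriek.prV j V₁) := ⟨pullback.lift (𝟙 _) W₁.hom (Category.id_comp _),
        pullback.hom_ext ((Category.assoc _ _ _).trans ((congrArg (_ ≫ ·) (pullback.lift_fst _ _ _)).trans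
            ((Category.comp_id _).trans (Category.id_comp _).symm)))
          ((Category.assoc _ _ _).trans ((congrArg (_ ≫ ·) (pullback.lift_snd _ _ _)).trans
            ((MorphismProperty.Over.w i₁).trans (Category.id_comp _).symm))),
        pullback.lift_fst _ _ _⟩
      let τ' : EtCoh.sect ((shriek j).obj F) V₁ :=
        ⟨F.obj.map i₁.op τ, mem_shriekSubgroup.2 ⟨isClosed_sectSupp _ _, inferInstance⟩⟩
      let N := (EtCoh.bc pb).obj V₁
      let gt : N ⟶ EtCoh.top (pullback fb ξ) := (EtCore.topIsTerminal _).from _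
      let a₀ : EtCoh.sect ((shriek j').obj G) N := (chi j pb j' p F sqj).hom.app (op V₁) τ'
      let D : EtCoh.sect ((shriek j').obj G) N := a₀ - ((shriek j').obj G).obj.map gt.op c
      let k := bcCmp j pb j' p sqj.w V₁ ≫ (EtCoh.bc p).map i₁
      have hD : D.1 = G.obj.map k.op (unitS p F W₁ τ - G.obj.map ((EtCoh.bc p).map g₁).op (G.obj.map k0.op σ)) := by
        show (show EtCoh.sect G ((EtCoh.bc j').obj N) from a₀.1) -
          G.obj.map ((EtCoh.bc j').map gt).op (G.obj.map i.hom.op σ) = _
        rw [show (show EtCoh.sect G ((EtCoh.bc j').obj N) from a₀.1) = bcSect j pb j' p sqj.w F V₁ τ'.1 from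
          chi_app j pb j' p F sqj V₁ τ', map_sub, map_map, map_map, map_map]
        refine congrArg₂ (· - ·) ?_ ?_
        · show G.obj.map (bcCmp j pb j' p sqj.w V₁).op (unitS p F _ (F.obj.map i₁.op τ)) = _
          rw [← PBC20.unitS_map p F i₁ τ, map_map]
        · exact congrArg (fun m : (EtCoh.bc j').obj N ⟶ EtCoh.top W => G.obj.map m.op σ)
            ((EtCore.topIsTerminal W).hom_ext _ _)
      have hcond : pullback.fst W₁.hom p ≫ (W₁.hom ≫ j) = (pullback.snd W₁.hom p ≫ j') ≫ pb :=
        (Category.assoc _ _ _).symm.trans ((congrArg (· ≫ j) pullback.condition).trans ((Category.assoc _ _ _).trans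
          ((congrArg (_ ≫ ·) hj1.symm).trans (Category.assoc _ _ _).symm)))
      let r : (EtCoh.bc p).obj W₁ ⟶ (EtCoh.bc j').obj N := MorphismProperty.Over.homMk
        (pullback.lift (pullback.lift (pullback.fst W₁.hom p) (pullback.snd W₁.hom p ≫ j') hcond)
          (pullback.snd W₁.hom p) (pullback.lift_snd _ _ _)) (pullback.lift_snd _ _ _) trivial
      have hrk : r ≫ k = 𝟙 _ := by
        refine hom_ext_bc p ?_
        refine Eq.trans ?_ (Category.id_comp _).symm
        show (r.left ≫ (bcCmp j pb j' p sqj.w V₁).left ≫ ((EtCoh.bc p).map i₁).left) ≫ _ = _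
        rw [Category.assoc, Category.assoc]
        refine (congrArg (fun m => r.left ≫ (bcCmp j pb j' p sqj.w V₁).left ≫ m)
          (EtCoh.isPullback_bc_map p i₁).w).trans ?_
        refine (congrArg (r.left ≫ ·) (bcCmp_fst j pb j' p sqj.w V₁)).trans ?_
        refine (Category.assoc _ _ _).symm.trans ((congrArg (· ≫ pullback.fst V₁.hom pb) (pullback.lift_fst _ _ _)).trans ?_)
        exact pullback.lift_fst _ _ _
      let y : ((EtCoh.bc j').obj N).left := r.left w₁
      have hy : y ∈ vanishing G D.1 := by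
        rw [hD, PBC20.mem_vanishing_map]
        have : k.left (r.left w₁) = w₁ :=
          (Scheme.Hom.comp_apply _ _ _).symm.trans (congrArg (fun m : (EtCoh.bc p).obj W₁ ⟶ _ => m.left w₁) hrk)
        rw [this]
        exact hτ
      let u := EtShriek.prV j' N y
      have hu : gt.left u = j' z := by
        have e1 : gt.left = pullback.snd V₁.hom pb :=
          (Category.comp_id _).symm.trans (MorphismProperty.Over.w gt)
        have e2 : pullback.snd W₁.hom p w₁ = z := by
          have ea : pullback.snd (EtCoh.top X).hom p (((EtCoh.bc p).map g₁).left w₁) = pullback.snd W₁.hom p w₁ :=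
            (Scheme.Hom.comp_apply _ _ w₁).symm.trans
              (congrArg (fun m => m w₁) (MorphismProperty.Over.w ((EtCoh.bc p).map g₁)))
          rw [← ea, hw₁]
          exact (Scheme.Hom.comp_apply _ _ z).symm.trans
            ((congrArg (fun m : W ⟶ W => m z) (MorphismProperty.Over.w (mtop p))).trans rfl)
        rw [e1, ← e2]
        refine (Scheme.Hom.comp_apply _ _ y).symm.trans ?_
        refine (congrArg (fun m => m y) (pullback.condition (f := N.hom) (g := j'))).trans ?_
        refine (Scheme.Hom.comp_apply _ _ y).trans (congrArg j' ?_)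
        exact (Scheme.Hom.comp_apply _ _ w₁).symm.trans (congrArg (fun m => m w₁) (MorphismProperty.Over.w r))
      have hinj : Function.Injective (EtShriek.prV j' N) :=
        (MorphismProperty.pullback_fst (P := @IsOpenImmersion) N.hom j' ‹_› :
          IsOpenImmersion (EtShriek.prV j' N)).base_open.injective
      let O : N.left.Opens := ⟨_, (isClosed_image (mem_shriekSubgroup.1 D.2)).isOpen_compl⟩
      have huO : u ∈ O := by
        rintro ⟨y', hy', hyu⟩
        rw [hinj hyu, EtCore45.sectSupp_eq] at hy'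
        exact hy' hy
      obtain ⟨o, ho⟩ := (range_openSubι N O).ge huO
      have h0 : ((shriek j').obj G).obj.map (openSubι N O).op D = 0 := Subtype.ext (by
        refine map_eq_zero_of_disjoint ((EtCoh.bc j').map (openSubι N O)) D.1 (subset_refl _) fun a ha => ?_
        have hm := (range_openSubι N O).le (Set.mem_range_self (EtShriek.prV j' (openSub N O) a))
        exact hm ⟨_, ha, (Scheme.Hom.comp_apply _ _ a).symm.trans
          ((congrArg (fun m => m a) (EtCoh.isPullback_bc_map j' (openSubι N O)).w).trans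
            (Scheme.Hom.comp_apply _ _ a))⟩)
      refine ⟨_, openSubι N O ≫ gt, o,
        ((EtCoh.pull pb).obj ((shriek j).obj F)).obj.map (openSubι N O).op (unitS pb ((shriek j).obj F) V₁ τ'), ?_, ?_⟩
      · exact (Scheme.Hom.comp_apply _ _ o).trans ((congrArg gt.left ho).trans hu)
      · rw [app_map_eq, theta'_unit]
        rw [map_sub, sub_eq_zero, map_map] at h0
        exact h0
    · let O : (pullback fb ξ).Opens := ⟨(⇑j' '' Z₀)ᶜ, hZ₂.1.isOpen_compl⟩
      obtain ⟨o, ho⟩ := (range_openSubι (EtCoh.top (pullback fb ξ)) O).ge (show wb ∈ O from hwb)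
      refine ⟨_, openSubι (EtCoh.top (pullback fb ξ)) O, o, 0, ho, ?_⟩
      rw [map_zero]
      refine (map_eq_zero_of_disjoint (openSubι (EtCoh.top (pullback fb ξ)) O) c hcsupp fun a ha => ?_).symm
      exact (range_openSubι (EtCoh.top (pullback fb ξ)) O).le ⟨a, rfl⟩ ha
  obtain ⟨σb, hσb⟩ := exists_preimage_of_local θ c hloc
  have hσbs : ClSub.IsProperOver (X := pullback fb ξ) qb (EtShriek.sectSupp ((EtCoh.pull pb).obj ((shriek j).obj F))
      (EtCoh.top (pullback fb ξ)) σb) := by
    refine Coh69.PO.mono hZ₂ (isClosed_sectSupp _ _) ?_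
    rw [← sectSupp_app_of_injective θ (fun V => sect_injective_of_mono θ V) σb, hσb]
    exact hcsupp
  obtain ⟨V, t, sb, hsb, hsbσ⟩ := hL ξ pb qb (IsPullback.of_hasPullback fb ξ) ((shriek j).obj F) σb hσbs
  refine ⟨V, t, F.obj.map (bcIso j fb V).hom.op sb.1,
    (properSupp_comp_iff j fb F V sb.1).2 ⟨mem_shriekSubgroup.1 sb.2, hsb⟩, ?_⟩
  let L := liftTop pb (fibLift fb (pullback.condition (f := fb) (g := ξ)) t) (fibLift_w fb _ t)
  have h1 : θ.hom.app (op (EtCoh.top (pullback fb ξ))) σb =
      ((shriek j').obj G).obj.map L.op ((chi j pb j' p F sqj).hom.app (op ((EtCoh.bc fb).obj V)) sb) := by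
    rw [← hsbσ, fibSect, pullSect_apply, app_map_eq, theta'_unit]
  have h2 : c.1 = G.obj.map ((EtCoh.bc j').map L).op
      (bcSect j pb j' p sqj.w F ((EtCoh.bc fb).obj V) sb.1) := by
    rw [← hσb, h1]
    exact congrArg (fun a => G.obj.map ((EtCoh.bc j').map L).op a) (chi_app j pb j' p F sqj _ sb)
  have h3 : σ = G.obj.map i.inv.op c.1 := (map_endo G _ i.inv_hom_id σ).symm.trans (map_map G i.hom i.inv σ).symm
  rw [h2] at h3
  refine Eq.trans ?_ h3.symm
  refine Eq.trans ?_ ((map_map _ _ _ _).trans (map_map _ _ _ _)).symm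
  rw [Category.assoc]
  have hl := topLift_eq j fb (pullback.condition (f := fb) (g := ξ)) p j' sqj.w hj2 sq.w t
  refine Eq.trans ?_ (map_unitS_eq p F _ _ hl ((Category.assoc _ _ _).trans
    ((congrArg (_ ≫ ·) (MorphismProperty.Over.w (bcIso j fb V).hom)).trans (fibLift_w (j ≫ fb) sq.w t))) sb.1).symm
  exact pullSect_map p F (bcIso j fb V).hom _ _ _ sb.1

end Groth.Agent.Shriek20
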