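import Groth.Agent.Shriek20.CaseBase

/-!
Inheritance of the lifting property.
-/

set_option autoImplicit false
set_option backward.isDefEq.respectTransparency.types false
universe u

open CategoryTheory CategoryTheory.Limits AlgebraicGeometry Opposite
open Groth.Agent.Unr55.EtSh Groth.Agent.EtSupp91
open Groth.Agent.EtCore45 (bcCmp bcCmp_fst unit_bc0_app)
open Groth.Agent.PBC20 (unitS compE unitTop mtop)
open Groth.Agent.EtCore45.MV (map_map map_endo)

attribute [local instance high] CategoryStruct.toQuiver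

namespace Groth.Agent.Shriek20

variable {X Y : Scheme.{u}}

theorem lifts_of_proper_surjective {X₁ : Scheme.{u}} (π : X₁ ⟶ X) [IsProper π] [Surjective π] (f : X ⟶ Y)
    [IsSeparated f] [LocallyOfFiniteType f] (hL : Lifts (π ≫ f)) : Lifts f := by
  intro Ω _ _ ξ W p q sq F σ hσ
  let p₁ := pullback.fst π p
  let π' := pullback.snd π p
  have h : IsPullback p₁ π' π p := IsPullback.of_hasPullback π p
  have : IsProper π' := MorphismProperty.pullback_snd (P := @IsProper) π p ‹_›
  have : LocallyOfFiniteType q := MorphismProperty.of_isPullback sq ‹_›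
  let F₁ := (EtCoh.pull π).obj F
  let G := (EtCoh.push π).obj F₁
  let u : F ⟶ G := (EtCoh.pullPushAdj π).unit.app F
  have hu : ∀ U, Function.Injective (u.hom.app (op U)) := fun U => PBC20.unitS_injective π F
    (fun U => (MorphismProperty.pullback_fst (P := @Surjective) U.hom π ‹_› :
      Surjective (PBC20.proj π U)).surj) U
  have : Mono u := mono_of_app_injective u hu
  let σG := ((EtCoh.pull p).map u).hom.app (op (EtCoh.top W)) σ
  let ψ := EtCoh.baseChange0 π p π' p₁ h.w F₁
  have : IsIso ψ := Cons51.isIso_baseChange0_proper π p π' p₁ h F₁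
  let i := EtCore.bcTopIso π'
  obtain ⟨-, hi₂, -⟩ := bcTopIso_left π'
  let G₁ := (EtCoh.pull p₁).obj F₁
  let σ₁ : EtCoh.sect G₁ (EtCoh.top (pullback π p)) :=
    G₁.obj.map i.inv.op (ψ.hom.app (op (EtCoh.top W)) σG)
  have hσ₁ : ClSub.IsProperOver (X := pullback π p) (π' ≫ q) (EtShriek.sectSupp G₁ (EtCoh.top _) σ₁) := by
    refine Coh69.PO.mono (Coh69.PO.preimage π' rfl hσ) (isClosed_sectSupp _ _) fun z hz => ?_
    by_contra hz'
    rw [sectSupp_map] at hz
    have h1 : π' z ∈ vanishing ((EtCoh.pull p).obj F) σ := by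
      by_contra h
      exact hz' (show π' z ∈ EtShriek.sectSupp _ _ σ by rw [EtCore45.sectSupp_eq]; exact h)
    have h2 := mem_vanishing_app_of_le ψ σG (mem_vanishing_app_of_le ((EtCoh.pull p).map u) σ h1)
    have h3 : EtShriek.prV π' (EtCoh.top W) (i.inv.left z) = π' z :=
      (Scheme.Hom.comp_apply _ _ z).symm.trans (congrArg (fun m => m z) hi₂)
    rw [← h3] at h2
    have h4 := mem_vanishing_push π' G₁ (EtCoh.top W) _ _ h2
    have hz2 : i.inv.left z ∈ EtShriek.sectSupp G₁ ((EtCoh.bc π').obj (EtCoh.top W))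
      (ψ.hom.app (op (EtCoh.top W)) σG) := hz
    rw [EtCore45.sectSupp_eq] at hz2
    exact hz2 h4
  have sq₁ : IsPullback p₁ (π' ≫ q) (π ≫ f) ξ := h.paste_vert sq
  obtain ⟨V, t, s₁, hs₁, hs₁σ⟩ := hL ξ p₁ (π' ≫ q) sq₁ F₁ σ₁ hσ₁
  let sG : EtCoh.sect G ((EtCoh.bc f).obj V) := F₁.obj.map (bcIso π f V).inv.op s₁
  have hs₁' : F₁.obj.map (bcIso π f V).hom.op sG = s₁ :=
    (map_map _ _ _ _).trans (map_endo _ _ (bcIso π f V).hom_inv_id _)
  have hsG : ProperSupp f G V sG := (properSupp_push π f F₁ V sG (by rw [hs₁']; exact hs₁)).1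
  have hψ : Function.Injective (ψ.hom.app (op (EtCoh.top W))) := (PBC20.bijective_iso_app (asIso ψ) _).1
  have hinv : Function.Injective (G₁.obj.map i.inv.op) :=
    (ConcreteCategory.bijective_of_isIso (G₁.obj.map i.inv.op)).1
  have hG : fibSect f sq.w G t sG = σG := by
    refine hψ (hinv ?_)
    refine Eq.trans ?_ (hs₁σ.trans rfl)
    rw [fibSect, pullSect_apply, app_map_eq]
    show G₁.obj.map i.inv.op (G₁.obj.map ((EtCoh.bc π').map _).op (ψ.hom.app _ _)) = _
    rw [unit_bc0_app, map_map, map_map, Category.assoc]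
    have hl := topLift_eq π f sq.w p₁ π' h.w rfl sq₁.w t
    refine (map_unitS_eq p₁ F₁ _ _ hl ((Category.assoc _ _ _).trans
      ((congrArg (_ ≫ ·) (MorphismProperty.Over.w (bcIso π f V).hom)).trans (fibLift_w (π ≫ f) sq₁.w t))) sG).trans ?_
    refine (pullSect_map p₁ F₁ (bcIso π f V).hom _ (fibLift_w (π ≫ f) sq₁.w t) _ sG).symm.trans ?_
    exact congrArg (fibSect (π ≫ f) sq₁.w F₁ t) hs₁'
  let cH := (cokernel.π u).hom.app (op ((EtCoh.bc f).obj V)) sG
  have hcH : ProperSupp f (cokernel u) V cH :=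
    Coh69.PO.mono hsG (isClosed_sectSupp _ _) (EtShriek.sectSupp_map_subset (cokernel.π u) _ sG)
  have hcH0 : fibSect f sq.w (cokernel u) t cH = 0 := by
    rw [fibSect, ← pullSect_natural, show pullSect p G _ _ sG = σG from hG]
    show ((EtCoh.pull p).map u ≫ (EtCoh.pull p).map (cokernel.π u)).hom.app _ σ = 0
    rw [← Functor.map_comp, cokernel.condition, Functor.map_zero]
    rfl
  obtain ⟨V', g, t', hgt, hg⟩ := exists_map_eq_zero_of_fibSect f sq t hcH hcH0
  obtain ⟨s, hs⟩ := exists_of_cokernel_eq_zero u ((EtCoh.bc f).obj V') (G.obj.map ((EtCoh.bc f).map g).op sG)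
    ((app_map_eq (cokernel.π u) ((EtCoh.bc f).map g) sG).trans hg)
  refine ⟨V', t', s, ?_, ?_⟩
  · have hsG' : ProperSupp f G V' (G.obj.map ((EtCoh.bc f).map g).op sG) := ProperSupp.map g hsG
    unfold ProperSupp at hsG' ⊢
    rwa [← hs, sectSupp_app_of_injective u hu] at hsG'
  · have := mono_pull (q := p) u
    refine sect_injective_of_mono ((EtCoh.pull p).map u) _ ?_
    rw [fibSect, pullSect_natural, hs]
    exact (fibSect_map f sq.w G g t' sG).trans (by rw [hgt]; exact hG)

end Groth.Agent.Shriek20
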