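import Groth.Agent.Shriek20.CaseBase

/-!
Inheritance of the lifting property.
-/

set_option autoImplicit false
set_option backward.isDefEq.respectTransparency.types false
universe u

open CategoryTheory CategoryTheory.Limits AlgebraicGeometry Opposite
open Groth.Agent.Unr55.EtSh Groth.Agent.EtSupp91
open Groth.Agent.EtCore45 (bcCmp bcCmp_fst unit_bc0_app)
open Groth.Agent.PBC20 (unitS compE unitTop mtop)
open Groth.Agent.EtCore45.MV (map_map map_endo)

attribute [local instance high] CategoryStruct.toQuiver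

namespace Groth.Agent.Shriek20

variable {X Y : Scheme.{u}}

theorem iso_hom_app_inv_app {Z : Scheme.{u}} {B C : EtCoh.Ab Z} (e : B ≅ C) (V : Z.Etale) (x : EtCoh.sect C V) :
    e.hom.hom.app (op V) (e.inv.hom.app (op V) x) = x :=
  ConcreteCategory.congr_hom (congrArg (fun m => m.hom.app (op V)) e.inv_hom_id) x

theorem eq_of_iso_app {Z : Scheme.{u}} {B C D : EtCoh.Ab Z} (e₁ : B ≅ D) (e₂ : C ≅ D) (V : Z.Etale)
    {a : EtCoh.sect B V} {b c : EtCoh.sect C V} (h : e₁.hom.hom.app (op V) a = e₂.hom.hom.app (op V) b)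
    (h' : e₁.inv.hom.app (op V) (e₂.hom.hom.app (op V) c) = a) : b = c :=
  (PBC20.bijective_iso_app e₂ V).1 (h.symm.trans
    ((congrArg (ConcreteCategory.hom (e₁.hom.hom.app (op V))) h'.symm).trans (iso_hom_app_inv_app e₁ V _)))

theorem compE_fibSect_restrict {X' : Scheme.{u}} (j : X' ⟶ X) [LocallyOfFiniteType j] (f : X ⟶ Y) (F : EtCoh.Ab X)
    {Ω : Type u} [Field Ω] [IsSepClosed Ω] {ξ : Spec (CommRingCat.of Ω) ⟶ Y} {W W' : Scheme.{u}} {p : W ⟶ X}
    {q : W ⟶ Spec (CommRingCat.of Ω)} (hw : p ≫ f = q ≫ ξ) {p' : W' ⟶ X'} (j' : W' ⟶ W) (w : p' ≫ j = j' ≫ p)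
    (hw' : p' ≫ j ≫ f = (j' ≫ q) ≫ ξ) {V : Y.Etale} (t : Pt ξ V) (s : EtCoh.sect F ((EtCoh.bc f).obj V)) :
    (compE p' j w F).hom.hom.app (op (EtCoh.top W')) (fibSect (j ≫ f) hw' ((EtCoh.pull j).obj F) t
        (((EtCoh.pull j).obj F).obj.map (bcIso j f V).hom.op (unitS j F _ s))) =
      (compE j' p (rfl : j' ≫ p = j' ≫ p) F).hom.hom.app (op (EtCoh.top W'))
        (unitTop j' ((EtCoh.pull p).obj F) (fibSect f hw F t s)) := by
  have hl : (j' ≫ fibLift f hw t) ≫ ((EtCoh.bc f).obj V).hom = j' ≫ p :=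
    (Category.assoc _ _ _).trans (congrArg (j' ≫ ·) (fibLift_w f hw t))
  let l'' := fibLift (j ≫ f) hw' t ≫ (bcIso j f V).hom.left
  have hl'' : l'' ≫ ((EtCoh.bc j).obj ((EtCoh.bc f).obj V)).hom = p' :=
    (Category.assoc _ _ _).trans ((congrArg (_ ≫ ·) (MorphismProperty.Over.w (bcIso j f V).hom)).trans
      (fibLift_w (j ≫ f) hw' t))
  have e : l'' ≫ pullback.fst ((EtCoh.bc f).obj V).hom j = j' ≫ fibLift f hw t := by
    refine pullback.hom_ext ?_ ?_
    · refine (Category.assoc _ _ _).trans ((Category.assoc _ _ _).trans ?_)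
      refine (congrArg (_ ≫ ·) (bcIso_pr j f V)).trans ((fibLift_prV (j ≫ f) hw' t).trans ?_)
      exact (Category.assoc _ _ _).trans ((congrArg (j' ≫ ·) (fibLift_prV f hw t).symm).trans
        (Category.assoc _ _ _).symm)
    · refine (Category.assoc _ _ _).trans ((congrArg (l'' ≫ ·)
        (pullback.condition (f := ((EtCoh.bc f).obj V).hom) (g := j))).trans ?_)
      exact (Category.assoc _ _ _).symm.trans ((congrArg (· ≫ j) hl'').trans (w.trans
        (hl.symm.trans (Category.assoc _ _ _))))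
  have hl3 : (l'' ≫ pullback.fst ((EtCoh.bc f).obj V).hom j) ≫ ((EtCoh.bc f).obj V).hom = j' ≫ p :=
    (congrArg (· ≫ _) e).trans hl
  have h1 : fibSect (j ≫ f) hw' ((EtCoh.pull j).obj F) t
      (((EtCoh.pull j).obj F).obj.map (bcIso j f V).hom.op (unitS j F _ s)) =
        pullSect p' ((EtCoh.pull j).obj F) l'' hl'' (unitS j F _ s) :=
    pullSect_map p' ((EtCoh.pull j).obj F) (bcIso j f V).hom _ (fibLift_w (j ≫ f) hw' t) hl'' (unitS j F _ s)
  rw [h1]
  refine (compE_map_pullSect F p' w l'' hl'' hl3 s).trans ?_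
  refine (pullSect_congr (j' ≫ p) F e hl3 hl s).trans ?_
  exact (compE_unitTop_pullSect F j' (rfl : j' ≫ p = j' ≫ p) (fibLift f hw t) (fibLift_w f hw t) hl s).symm

theorem lifts_of_openImmersion {X' : Scheme.{u}} (j : X' ⟶ X) [IsOpenImmersion j] (f : X ⟶ Y) [IsSeparated f]
    [LocallyOfFiniteType f] (hL : Lifts (j ≫ f)) {Ω : Type u} [Field Ω] [IsSepClosed Ω]
    {ξ : Spec (CommRingCat.of Ω) ⟶ Y} {W : Scheme.{u}} {p : W ⟶ X} {q : W ⟶ Spec (CommRingCat.of Ω)}
    (sq : IsPullback p q f ξ) (F : EtCoh.Ab X) (σ : EtCoh.sect ((EtCoh.pull p).obj F) (EtCoh.top W))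
    (hσ : ClSub.IsProperOver (X := W) q (EtShriek.sectSupp ((EtCoh.pull p).obj F) (EtCoh.top W) σ))
    (hsub : ∀ z : W, z ∈ EtShriek.sectSupp ((EtCoh.pull p).obj F) (EtCoh.top W) σ → p z ∈ Set.range j) :
    ∃ (V : Y.Etale) (t : Pt ξ V) (s : EtCoh.sect F ((EtCoh.bc f).obj V)),
      ProperSupp f F V s ∧ fibSect f sq.w F t s = σ := by
  let j' := pullback.fst p j
  let p' := pullback.snd p j
  have sqw : IsPullback p' j' j p := (IsPullback.of_hasPullback p j).flip
  have : IsOpenImmersion j' := MorphismProperty.pullback_fst (P := @IsOpenImmersion) p j ‹_›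
  have hrange : Set.range j' = ⇑p ⁻¹' Set.range j := Scheme.Pullback.range_fst p j
  have : LocallyOfFiniteType q := MorphismProperty.of_isPullback sq ‹_›
  have sq' : IsPullback p' (j' ≫ q) (j ≫ f) ξ := sqw.paste_vert sq
  obtain ⟨σ', hσ'def⟩ : ∃ σ' : EtCoh.sect ((EtCoh.pull p').obj ((EtCoh.pull j).obj F)) (EtCoh.top (pullback p j)),
      (compE p' j sqw.w F).inv.hom.app (op (EtCoh.top (pullback p j)))
        ((compE j' p (rfl : j' ≫ p = j' ≫ p) F).hom.hom.app (op (EtCoh.top (pullback p j)))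
          (unitTop j' ((EtCoh.pull p).obj F) σ)) = σ' := ⟨_, rfl⟩
  have hσ's : EtShriek.sectSupp ((EtCoh.pull p').obj ((EtCoh.pull j).obj F)) (EtCoh.top (pullback p j)) σ' =
      (⇑j' ⁻¹' EtShriek.sectSupp ((EtCoh.pull p).obj F) (EtCoh.top W) σ : Set ↥(pullback p j)) := by
    rw [← hσ'def,
      sectSupp_app_of_injective (compE p' j sqw.w F).inv fun V => (PBC20.bijective_iso_app (compE p' j sqw.w F).symm V).1,
      sectSupp_app_of_injective (compE j' p (rfl : j' ≫ p = j' ≫ p) F).hom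
        fun V => (PBC20.bijective_iso_app (compE j' p (rfl : j' ≫ p = j' ≫ p) F) V).1,
      EtCore45.sectSupp_eq, EtCore45.sectSupp_eq]
    ext z
    exact not_congr (mem_vanishing_unitTop j' _ σ z)
  have hσ' : ClSub.IsProperOver (X := pullback p j) (j' ≫ q)
      (EtShriek.sectSupp ((EtCoh.pull p').obj ((EtCoh.pull j).obj F)) (EtCoh.top (pullback p j)) σ') := by
    rw [hσ's]
    obtain ⟨R, i, hi, -, hr, hp⟩ := Coh69.PO.exists_model hσ
    have hR : Set.range i ⊆ Set.range j' := by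
      rw [hr, hrange]
      exact fun z hz => hsub z hz
    let k := IsOpenImmersion.lift j' i hR
    have hk : k ≫ j' = i := IsOpenImmersion.lift_fac _ _ _
    have : IsClosedImmersion k := by
      have : IsClosedImmersion (k ≫ j') := by rw [hk]; exact hi
      exact IsClosedImmersion.of_comp k j'
    refine (Coh69.PO.iff_of_range k ?_).2 ?_
    · rw [← hr]
      ext z
      refine ⟨?_, fun ⟨a, ha⟩ => ⟨a, ?_⟩⟩
      · rintro ⟨a, rfl⟩
        exact ⟨a, by rw [← Scheme.Hom.comp_apply, hk]⟩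
      · exact j'.isOpenEmbedding.injective (by rw [← Scheme.Hom.comp_apply, hk, ha])
    · rw [← Category.assoc, hk]
      exact hp
  obtain ⟨V, t, s', hs', hs'σ⟩ := hL ξ p' (j' ≫ q) sq' ((EtCoh.pull j).obj F) σ' hσ'
  let s'' : EtCoh.sect ((EtCoh.push j).obj ((EtCoh.pull j).obj F)) ((EtCoh.bc f).obj V) :=
    ((EtCoh.pull j).obj F).obj.map (bcIso j f V).inv.op s'
  have hs'' : ((EtCoh.pull j).obj F).obj.map (bcIso j f V).hom.op s'' = s' :=
    (map_map _ _ _ _).trans (map_endo _ _ (bcIso j f V).hom_inv_id _)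
  have hps : ProperSupp (j ≫ f) ((EtCoh.pull j).obj F) V
      (((EtCoh.pull j).obj F).obj.map (bcIso j f V).hom.op s'') := by rw [hs'']; exact hs'
  obtain ⟨h1, h2⟩ := (properSupp_comp_iff j f ((EtCoh.pull j).obj F) V s'').1 hps
  obtain ⟨-, hT, hsubT⟩ := properSupp_push j f ((EtCoh.pull j).obj F) V s'' hps
  have hTW : ⇑(EtShriek.prV j ((EtCoh.bc f).obj V)) '' EtShriek.sectSupp ((EtCoh.pull j).obj F) _ s'' ⊆
      ⇑((EtCoh.bc f).obj V).hom ⁻¹' Set.range j := by
    rintro _ ⟨y, -, rfl⟩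
    exact ⟨pullback.snd ((EtCoh.bc f).obj V).hom j y, (Scheme.Hom.comp_apply _ _ y).symm.trans
      ((congrArg (fun m : ((EtCoh.bc j).obj ((EtCoh.bc f).obj V)).left ⟶ X => m y)
        (pullback.condition (f := ((EtCoh.bc f).obj V).hom) (g := j)).symm).trans (Scheme.Hom.comp_apply _ _ y))⟩
  obtain ⟨s, hs, hssupp⟩ := exists_preimage_supported ((EtCoh.pullPushAdj j).unit.app F) j.isOpenEmbedding.isOpen_range
    (fun K _ _ η hη => by
      obtain ⟨v, rfl⟩ := EtCore45.exists_above j η hη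
      exact unit_stalk_bijective j v F
        (pushStalkMap_bijective j v (dominated_of_isOpenImmersion j v) (openRefined_of_isOpenImmersion j v) _))
    hT hTW s'' hsubT
  refine ⟨V, t, s, Coh69.PO.mono h2 (isClosed_sectSupp _ _) ?_, ?_⟩
  · rw [sectSupp_shriek]
    exact hssupp
  refine sub_eq_zero.1 (PBC20.eq_zero_of_vanishing _ _ fun z => ?_)
  by_cases hz : z ∈ Set.range j'
  · obtain ⟨z', rfl⟩ := hz
    refine (mem_vanishing_unitTop j' ((EtCoh.pull p).obj F) _ z').1 ?_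
    have key : unitTop j' ((EtCoh.pull p).obj F) (fibSect f sq.w F t s) = unitTop j' _ σ := by
      have hσ'eq : σ' = fibSect (j ≫ f) sq'.w ((EtCoh.pull j).obj F) t
          (((EtCoh.pull j).obj F).obj.map (bcIso j f V).hom.op (unitS j F _ s)) := by
        rw [← hs'σ, ← hs'', ← hs]
      exact eq_of_iso_app (compE p' j sqw.w F) (compE j' p (rfl : j' ≫ p = j' ≫ p) F) (EtCoh.top (pullback p j))
        (compE_fibSect_restrict j f F sq.w j' sqw.w sq'.w t s) (hσ'def.trans hσ'eq)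
    have hd : unitTop j' ((EtCoh.pull p).obj F) (fibSect f sq.w F t s - σ) = 0 := by
      rw [unitTop_sub]
      exact sub_eq_zero.2 key
    rw [hd]
    exact range_le_vanishing _ 0 (𝟙 _) (map_zero _) ⟨z', rfl⟩
  · by_contra hn
    have hd : z ∈ EtShriek.sectSupp ((EtCoh.pull p).obj F) (EtCoh.top W) (fibSect f sq.w F t s - σ) := by
      rw [EtCore45.sectSupp_eq]; exact hn
    refine hz (hrange.ge ?_)
    rcases sectSupp_sub _ _ _ hd with hd | hd
    · rw [sectSupp_pullSect] at hd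
      have h5 := hTW (hssupp hd)
      show p z ∈ Set.range j
      have h6 : ((EtCoh.bc f).obj V).hom (fibLift f sq.w t z) = p z :=
        (Scheme.Hom.comp_apply _ _ z).symm.trans (congrArg (fun m => m z) (fibLift_w f sq.w t))
      exact h6 ▸ h5
    · exact hsub z hd

end Groth.Agent.Shriek20
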