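import Groth.Agent.EtSupp91.Coproducts
import Groth.Agent.EtSupp91.ExtZeroShriek
import Groth.Agent.EtSupp91.Comp
import Groth.Agent.EtCore45.ExtZeroOpen
import Groth.Agent.EtCore45.EtalePull
import Groth.Agent.Cons51.ClosedPoints
import Groth.Agent.Cons51.StalkExt
import Groth.Agent.PBC51.Van.Ops

/-!
Cohomology of direct images with proper supports from a scheme cut into clopen pieces.
-/

set_option autoImplicit false
set_option backward.isDefEq.respectTransparency.types false
set_option linter.unusedSectionVars false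
universe u

open CategoryTheory CategoryTheory.Limits CategoryTheory.Abelian AlgebraicGeometry Opposite
open Groth.Agent.Unr55.EtSh Groth.Agent.EtCore45

namespace Groth.Agent.Shriek20

variable {P X Y : Scheme.{u}}

/-- Cohomology of a coproduct of sheaves vanishes if that of each summand does. -/
theorem isZero_HF_coprod [CompactSpace X] [QuasiSeparatedSpace X] {α : Type (u + 1)} (A : α → EtCoh.Ab X) (q : ℕ)
    (h : ∀ a, IsZero ((EtCoh.HF X q).obj (A a))) : IsZero ((EtCoh.HF X q).obj (∐ A)) := by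
  have := Unr55.HColim.preservesColimitsOfShape_HF (X := X) (Finset (Discrete α)) q
  let hcH := isColimitOfPreserves (EtCoh.HF X q) (CoproductsFromFiniteFiltered.isColimitFiniteSubproductsCocone A)
  refine (IsZero.iff_id_eq_zero _).2 (hcH.hom_ext fun S => ?_)
  refine IsZero.eq_of_src ?_ _ _
  have := DCoh.additive_HF (X := X) q
  have : PreservesFiniteCoproducts (EtCoh.HF X q) := inferInstance
  have : PreservesColimitsOfShape (Discrete (Fin (Nat.card (S : Finset (Discrete α))))) (EtCoh.HF X q) :=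
    PreservesFiniteCoproducts.preserves _
  have : PreservesColimitsOfShape (Discrete (S : Finset (Discrete α))) (EtCoh.HF X q) :=
    preservesColimitsOfShape_of_equiv (Discrete.equivalence (Finite.equivFin (S : Finset (Discrete α))).symm) _
  let hS := isColimitOfPreserves (EtCoh.HF X q) (colimit.isColimit (Discrete.functor fun y : S => A y.1.as))
  exact (IsZero.iff_id_eq_zero _).2 (hS.hom_ext fun ⟨y⟩ => (h y.1.as).eq_of_src _ _)

/-- A sheaf is the coproduct of its extensions by zero from disjoint open pieces covering the scheme. -/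
theorem nonempty_iso_coprod_pieces {α : Type (u + 1)} (U : α → P.Opens) (hcov : ∀ x, ∃ a, x ∈ U a)
    (hdis : ∀ a b x, x ∈ U a → x ∈ U b → a = b) (T : EtCoh.Ab P) :
    Nonempty ((∐ fun a => (EtShriek.extZero (U a).ι).obj ((EtShriek.restrAlong (U a).ι).obj T)) ≅ T) := by
  let A : α → EtCoh.Ab P := fun a => (EtShriek.extZero (U a).ι).obj ((EtShriek.restrAlong (U a).ι).obj T)
  let p : ∐ A ⟶ T := Sigma.desc fun a => (EtShriek.extZeroAdj (U a).ι).counit.app T
  suffices IsIso p from ⟨asIso p⟩
  refine Unr55.EtSh.isIso_of_stalks p fun Ω _ _ η => ?_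
  have : PreservesColimitsOfSize.{u + 1, u + 1} (EtCoh.stalk η) :=
    (Scheme.pointSmallEtale η).skyscraperSheafAdjunction.leftAdjoint_preservesColimits
  let hcs := isColimitOfPreserves (EtCoh.stalk η) (coproductIsCoproduct A)
  obtain ⟨a₀, ha₀⟩ := hcov (η default)
  have hz : ∀ b, b ≠ a₀ → IsZero ((EtCoh.stalk η).obj (A b)) := fun b hb =>
    isZero_extZero_stalk (j := (U b).ι) (ξ := η) _ (isEmpty_above _ _ fun h => hb (hdis b a₀ _ (by
      rwa [Scheme.Opens.range_ι] at h) ha₀))
  have hepi : Epi ((EtCoh.stalk η).map (Sigma.ι A a₀)) := ⟨fun g h hgh => hcs.hom_ext fun ⟨b⟩ => by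
    by_cases hb : b = a₀
    · subst hb; exact hgh
    · exact (hz b hb).eq_of_src _ _⟩
  have hsur := (AddCommGrpCat.epi_iff_surjective _).1 hepi
  have hb : Function.Bijective ((EtCoh.stalk η).map ((EtShriek.extZeroAdj (U a₀).ι).counit.app T)) :=
    counit_extZero_stalk_bijective (U a₀).ι η (by rw [Scheme.Opens.range_ι]; exact ha₀) T
  have hcomp : ∀ w, (EtCoh.stalk η).map p ((EtCoh.stalk η).map (Sigma.ι A a₀) w) =
      (EtCoh.stalk η).map ((EtShriek.extZeroAdj (U a₀).ι).counit.app T) w := fun w => by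
    rw [← ConcreteCategory.comp_apply, ← Functor.map_comp, Sigma.ι_desc]
  refine ⟨fun z z' hzz => ?_, fun t => ?_⟩
  · obtain ⟨w, rfl⟩ := hsur z
    obtain ⟨w', rfl⟩ := hsur z'
    rw [hcomp, hcomp] at hzz
    exact congrArg _ (hb.1 hzz)
  · obtain ⟨w, hw⟩ := hb.2 t
    exact ⟨_, (hcomp w).trans hw⟩

/-- Higher cohomology of a direct image with proper supports vanishes if the source is cut into open
pieces, finite over the target, on which it vanishes. -/
theorem subsingleton_H_shriek_pieces [CompactSpace X] [QuasiSeparatedSpace X] (g : P ⟶ X) [IsSeparated g]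
    [LocallyOfFiniteType g] {α : Type (u + 1)} (U : α → P.Opens) (hcov : ∀ x, ∃ a, x ∈ U a)
    (hdis : ∀ a b x, x ∈ U a → x ∈ U b → a = b) (hfin : ∀ a, IsFinite ((U a).ι ≫ g)) (T : EtCoh.Ab P) (q : ℕ)
    (hT : ∀ a, Subsingleton (EtCoh.H (U a).toScheme ((EtCoh.pull (U a).ι).obj T) (q + 1))) :
    Subsingleton (EtCoh.H X ((EtShriek.lowerShriek g).obj T) (q + 1)) := by
  obtain ⟨e⟩ := nonempty_iso_coprod_pieces U hcov hdis T
  let A : α → EtCoh.Ab P := fun a => (EtShriek.extZero (U a).ι).obj ((EtShriek.restrAlong (U a).ι).obj T)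
  have := EtSupp91.preservesCoproducts g α
  suffices IsZero ((EtCoh.HF X (q + 1)).obj (∐ fun a => (EtShriek.lowerShriek g).obj (A a))) from
    AddCommGrpCat.subsingleton_of_isZero (this.of_iso ((EtCoh.HF X (q + 1)).mapIso
      ((EtShriek.lowerShriek g).mapIso e.symm ≪≫ (PreservesCoproduct.iso (EtShriek.lowerShriek g) A))))
  refine isZero_HF_coprod _ _ fun a => ?_
  let h := (U a).ι ≫ g
  have : IsFinite h := hfin a
  let G := (EtShriek.restrAlong (U a).ι).obj T
  let e₂ : (EtShriek.lowerShriek g).obj (A a) ≅ (EtCoh.push h).obj G :=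
    (EtShriek.lowerShriek g).mapIso ((EtSupp91.extZeroIsoLowerShriek (U a).ι).app G) ≪≫
      ((EtSupp91.lowerShriekComp (U a).ι g).app G).symm ≪≫ (EtSupp91.lowerShriekIsoPush h).app G
  have h1 := (PBC51.Van.vanish_leray h G (fun p => isZero_Rpush_of_finite h G (p + 1) p.succ_pos) (q + 1)).1
    (@Cons51.subsingleton_H_of_iso _ _ _ ((pullRestrIso (U a).ι).app T) (q + 1) (hT a))
  exact IsZero.of_iso (@AddCommGrpCat.isZero_of_subsingleton _ h1) ((EtCoh.HF X (q + 1)).mapIso e₂)

/-- Direct images with proper supports of torsion sheaves along quasi-finite morphisms are torsion. -/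
theorem isTorsion_lowerShriek (f : X ⟶ Y) [IsSeparated f] [LocallyOfFiniteType f] [LocallyQuasiFinite f]
    {F : EtCoh.Ab X} (hF : EtCoh.IsTorsion F) : EtCoh.IsTorsion ((EtShriek.lowerShriek f).obj F) := by
  refine (Cons51.isTorsion_iff_stalks _).2 fun K _ _ η a => ?_
  let L := AlgebraicClosure K
  let c : Spec (CommRingCat.of L) ⟶ Spec (CommRingCat.of K) := Spec.map (CommRingCat.ofHom (algebraMap K L))
  let η' := c ≫ η
  let i := (EtCoh.stalk η').mapIso ((EtSupp91.lowerShriekIso f).app F)
  have key : ∀ b : ((EtCoh.stalk η').obj ((EtSupp91.shriek f).obj F) : AddCommGrpCat.{u + 1}), IsOfFinAddOrder b := by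
    intro b
    obtain ⟨d, rfl⟩ := (EtSupp91.stalkSum_bijective (f := f) (η := η') F).2 b
    refine (EtSupp91.stalkSum f η' F).isOfFinAddOrder ?_
    classical
    induction d using DirectSum.induction_on with
    | zero => exact IsOfFinAddOrder.zero
    | of v x => exact (DirectSum.of _ v).isOfFinAddOrder ((Cons51.isTorsion_iff_stalks F).1 hF L v.1 x)
    | add x y hx hy => exact (AddCommute.all x y).isOfFinAddOrder_add hx hy
  have h2 : IsOfFinAddOrder (Cons51.stalkExt c η _ a) := by
    rw [← i.hom_inv_id_apply (Cons51.stalkExt c η _ a)]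
    exact i.inv.hom.isOfFinAddOrder (key _)
  obtain ⟨n, hn, h0⟩ := isOfFinAddOrder_iff_nsmul_eq_zero.1 h2
  refine isOfFinAddOrder_iff_nsmul_eq_zero.2 ⟨n, hn, (Cons51.stalkExt_bijective c η _).1 ?_⟩
  rw [map_nsmul, h0, map_zero]

end Groth.Agent.Shriek20
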