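import Groth.Agent.Shriek20.PullSect

/-!
Preimages of sections given locally.
-/

set_option autoImplicit false
set_option backward.isDefEq.respectTransparency.types false
universe u

open CategoryTheory CategoryTheory.Limits AlgebraicGeometry Opposite
open Groth.Agent.Unr55.EtSh
open Groth.Agent.EtCore45.MV (map_map)

attribute [local instance high] CategoryStruct.toQuiver

namespace Groth.Agent.Shriek20

variable {Z : Scheme.{u}} {B C : EtCoh.Ab Z} (φ : B ⟶ C)

theorem app_map_eq {U V : Z.Etale} (g : V ⟶ U) (b : EtCoh.sect B U) :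
    φ.hom.app (op V) (B.obj.map g.op b) = C.obj.map g.op (φ.hom.app (op U) b) :=
  NatTrans.naturality_apply φ.hom g.op b

theorem sect_eq_of_local (G : EtCoh.Ab Z) {U : Z.Etale} (a b : EtCoh.sect G U)
    (h : ∀ x : U.left, ∃ (V : Z.Etale) (g : V ⟶ U) (v : V.left), g.left v = x ∧
      G.obj.map g.op a = G.obj.map g.op b) : a = b := by
  refine sub_eq_zero.1 (sect_eq_zero_of_local G _ fun x => ?_)
  obtain ⟨V, g, v, hv, e⟩ := h x
  exact ⟨V, g, v, hv, by rw [map_sub, e, sub_self]⟩

/-- A section which lies locally in the image of a monomorphism lies in the image. -/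
theorem exists_preimage_of_local [Mono φ] {U : Z.Etale} (c : EtCoh.sect C U)
    (h : ∀ x : U.left, ∃ (V : Z.Etale) (g : V ⟶ U) (v : V.left) (b : EtCoh.sect B V),
      g.left v = x ∧ φ.hom.app (op V) b = C.obj.map g.op c) :
    ∃ b, φ.hom.app (op U) b = c := by
  let S : Sieve U :=
    { arrows := fun V g => ∃ b, φ.hom.app (op V) b = C.obj.map g.op c
      downward_closed := fun {V V' g} ⟨b, hb⟩ k => ⟨B.obj.map k.op b, by
        rw [app_map_eq, hb, map_map]⟩ }
  have hS : S ∈ Z.smallEtaleTopology U := mem_topology fun x => by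
    obtain ⟨V, g, v, b, hv, hb⟩ := h x
    exact ⟨V, g, v, ⟨b, hb⟩, hv⟩
  let x : Presieve.FamilyOfElements (B.obj ⋙ forget AddCommGrpCat.{u + 1}) S.arrows := fun V g hg => hg.choose
  have hx : x.Compatible := fun Y₁ Y₂ W g₁ g₂ f₁ f₂ h₁ h₂ w => by
    refine sect_injective_of_mono φ W ?_
    show φ.hom.app (op W) (B.obj.map g₁.op h₁.choose) = φ.hom.app (op W) (B.obj.map g₂.op h₂.choose)
    rw [app_map_eq, app_map_eq, h₁.choose_spec, h₂.choose_spec, map_map, map_map, w]
  obtain ⟨b, hb, -⟩ := isSheafFor_forget B hS x hx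
  refine ⟨b, sect_eq_of_local C _ _ fun y => ?_⟩
  obtain ⟨V, g, v, b', hv, hb'⟩ := h y
  refine ⟨V, g, v, hv, ?_⟩
  have hg : S g := ⟨b', hb'⟩
  rw [← app_map_eq]
  exact (congrArg (φ.hom.app (op V)) (hb g hg)).trans hg.choose_spec

theorem mem_vanishing_of_stalk_injective {U : Z.Etale} {W : Set Z}
    (hφ : ∀ (K : Type u) [Field K] [IsSepClosed K] (η : Spec (CommRingCat.of K) ⟶ Z),
      η default ∈ W → Function.Injective ((EtCoh.stalk η).map φ))
    (b : EtCoh.sect B U) (x : U.left) (hx : U.hom x ∈ W) (h : x ∈ vanishing C (φ.hom.app (op U) b)) :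
    x ∈ vanishing B b := by
  obtain ⟨K, _, _, η, t, rfl⟩ := point_over U x
  rw [← EtCore45.germ_eq_zero_iff_mem] at h ⊢
  have hη : η default ∈ W := by
    have e : η default = U.hom (hom η t default) :=
      (congrArg (fun k : Spec (CommRingCat.of K) ⟶ Z => k default) (Over.w t)).symm.trans
        (Scheme.Hom.comp_apply _ _ _)
    exact e ▸ hx
  refine hφ K η hη ?_
  rw [stalk_map_germ, h, map_zero]

theorem exists_local_preimage {U : Z.Etale} {W : Set Z} (hW : IsOpen W)
    (hφ : ∀ (K : Type u) [Field K] [IsSepClosed K] (η : Spec (CommRingCat.of K) ⟶ Z),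
      η default ∈ W → Function.Surjective ((EtCoh.stalk η).map φ))
    (c : EtCoh.sect C U) (x : U.left) (hx : U.hom x ∈ W) :
    ∃ (V : Z.Etale) (g : V ⟶ U) (v : V.left) (b : EtCoh.sect B V), g.left v = x ∧
      φ.hom.app (op V) b = C.obj.map g.op c ∧ ∀ y, V.hom y ∈ W := by
  obtain ⟨K, _, _, η, t, rfl⟩ := point_over U x
  have hη : η default ∈ W := by
    have e : η default = U.hom (hom η t default) :=
      (congrArg (fun k : Spec (CommRingCat.of K) ⟶ Z => k default) (Over.w t)).symm.trans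
        (Scheme.Hom.comp_apply _ _ _)
    exact e ▸ hx
  obtain ⟨a, ha⟩ := hφ K η hη (germ η C t c)
  obtain ⟨V₁, t₁, b₁, rfl⟩ := exists_germ_eq η B a
  let E₁ : (Scheme.pointSmallEtale η).fiber.Elements := ⟨V₁, t₁⟩
  let E₂ : (Scheme.pointSmallEtale η).fiber.Elements := ⟨U, t⟩
  have : IsCofiltered ((Scheme.pointSmallEtale η).fiber.Elements) := (Scheme.pointSmallEtale η).isCofiltered
  let k₁ := IsCofiltered.minToLeft E₁ E₂
  let k₂ := IsCofiltered.minToRight E₁ E₂
  have e : germ η C (IsCofiltered.min E₁ E₂).2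
      (φ.hom.app _ (B.obj.map k₁.1.op b₁) - C.obj.map k₂.1.op c) = 0 := by
    rw [map_sub, sub_eq_zero, ← stalk_map_germ, germ_map, germ_map, k₁.2, k₂.2]
    exact ha
  obtain ⟨V₂, g, t', h1, h2⟩ := (germ_eq_zero_iff η C _ _).1 e
  rw [map_sub, sub_eq_zero, ← app_map_eq, map_map, map_map] at h2
  let O : V₂.left.Opens := ⟨V₂.hom ⁻¹' W, hW.preimage V₂.hom.continuous⟩
  have hO : hom η t' default ∈ O := by
    show V₂.hom (hom η t' default) ∈ W
    rw [← Scheme.Hom.comp_apply]
    exact (congrArg (fun k : Spec (CommRingCat.of K) ⟶ Z => k default) (Over.w t')) ▸ hη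
  have h3 : (openSubι V₂ O).left (hom η (ptOpen O t' hO) default) = hom η t' default :=
    (Scheme.Hom.comp_apply _ _ _).symm.trans (congrArg (fun q : Spec (CommRingCat.of K) ⟶ V₂.left => q default)
      (liftOpen_fac O (hom η t') hO))
  have h4 : (Scheme.pointSmallEtale η).fiber.map (g ≫ k₂.1) t' = t := by
    rw [Functor.map_comp, ConcreteCategory.comp_apply, h1, k₂.2]
  refine ⟨openSub V₂ O, openSubι V₂ O ≫ g ≫ k₂.1, hom η (ptOpen O t' hO) default,
    B.obj.map (openSubι V₂ O).op (B.obj.map (g ≫ k₁.1).op b₁), ?_, ?_, fun y => ?_⟩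
  · show ((openSubι V₂ O).left ≫ (g ≫ k₂.1).left) _ = _
    rw [Scheme.Hom.comp_apply, h3]
    exact (Scheme.Hom.comp_apply _ _ _).symm.trans
      (congrArg (fun q => hom η q default) h4)
  · rw [app_map_eq, h2, map_map]
  · show ((openSubι V₂ O).left ≫ V₂.hom) y ∈ W
    rw [Scheme.Hom.comp_apply]
    exact (range_openSubι V₂ O).le ⟨y, rfl⟩

/-- Sections supported in a closed set over which a map is bijective on stalks lift. -/
theorem exists_preimage_supported {U : Z.Etale} {W : Set Z} (hW : IsOpen W)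
    (hφ : ∀ (K : Type u) [Field K] [IsSepClosed K] (η : Spec (CommRingCat.of K) ⟶ Z),
      η default ∈ W → Function.Bijective ((EtCoh.stalk η).map φ))
    {T : Set U.left} (hT : IsClosed T) (hTW : T ⊆ U.hom ⁻¹' W) (c : EtCoh.sect C U)
    (hc : EtShriek.sectSupp C U c ⊆ T) :
    ∃ b, φ.hom.app (op U) b = c ∧ EtShriek.sectSupp B U b ⊆ T := by
  have hsub : ∀ {V : Z.Etale} (g : V ⟶ U) (b : EtCoh.sect B V) (v : V.left),
      φ.hom.app (op V) b = C.obj.map g.op c → V.hom v ∈ W → g.left v ∉ T → v ∈ vanishing B b := by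
    intro V g b v hb hv hT'
    refine mem_vanishing_of_stalk_injective φ (fun K _ _ η h => (hφ K η h).1) b v hv ?_
    rw [hb, PBC20.mem_vanishing_map]
    by_contra h
    exact hT' (hc (by rw [EtCore45.sectSupp_eq]; exact h))
  let S : Sieve U :=
    { arrows := fun V g => ∃ b, φ.hom.app (op V) b = C.obj.map g.op c ∧
        ∀ v, g.left v ∉ T → v ∈ vanishing B b
      downward_closed := fun {V V' g} ⟨b, hb, hb'⟩ k => ⟨B.obj.map k.op b, by
          rw [app_map_eq, hb, map_map], fun v hv => (PBC20.mem_vanishing_map B k b v).2 (hb' _ (by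
            rwa [← Scheme.Hom.comp_apply]))⟩ }
  have hloc : ∀ x : U.left, ∃ (V : Z.Etale) (g : V ⟶ U) (v : V.left), S g ∧ g.left v = x := fun x => by
    by_cases hx : x ∈ T
    · obtain ⟨V, g, v, b, hv, hb, hVW⟩ :=
        exists_local_preimage φ hW (fun K _ _ η h => (hφ K η h).2) c x (hTW hx)
      exact ⟨V, g, v, ⟨b, hb, fun y hy => hsub g b y hb (hVW y) hy⟩, hv⟩
    · let O : U.left.Opens := ⟨Tᶜ, hT.isOpen_compl⟩
      obtain ⟨o, ho⟩ := (range_openSubι U O).ge (show x ∈ O from hx)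
      refine ⟨_, openSubι U O, o, ⟨0, ?_, fun v _ => ?_⟩, ho⟩
      · rw [map_zero]
        refine ((map_eq_zero_iff_range_le C c _).2 ?_).symm
        rw [range_openSubι]
        intro y hy
        by_contra h
        exact hy (hc (by rw [EtCore45.sectSupp_eq]; exact h))
      · exact range_le_vanishing B 0 (𝟙 _) (map_zero _) ⟨v, rfl⟩
  have hS : S ∈ Z.smallEtaleTopology U := mem_topology hloc
  let x : Presieve.FamilyOfElements (B.obj ⋙ forget AddCommGrpCat.{u + 1}) S.arrows := fun V g hg => hg.choose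
  have hx : x.Compatible := fun Y₁ Y₂ V g₁ g₂ f₁ f₂ h₁ h₂ w => by
    refine sub_eq_zero.1 (PBC20.eq_zero_of_vanishing B (B.obj.map g₁.op h₁.choose - B.obj.map g₂.op h₂.choose)
      fun v => ?_)
    by_cases hv : (g₁ ≫ f₁).left v ∈ T
    · refine mem_vanishing_of_stalk_injective φ (fun K _ _ η h => (hφ K η h).1) _ v ?_ ?_
      · have e : V.hom v = U.hom ((g₁ ≫ f₁).left v) :=
          (congrArg (fun k => k v) (Over.w (g₁ ≫ f₁).hom)).symm.trans (Scheme.Hom.comp_apply _ _ v)
        exact e ▸ hTW hv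
      · rw [map_sub, app_map_eq, app_map_eq, h₁.choose_spec.1, h₂.choose_spec.1, map_map, map_map, w, sub_self]
        exact range_le_vanishing C 0 (𝟙 _) (map_zero _) ⟨v, rfl⟩
    · have k₁ : v ∈ vanishing B (B.obj.map g₁.op h₁.choose) :=
        (PBC20.mem_vanishing_map B g₁ _ v).2 (h₁.choose_spec.2 _ (by rwa [← Scheme.Hom.comp_apply]))
      have k₂ : v ∈ vanishing B (B.obj.map g₂.op h₂.choose) :=
        (PBC20.mem_vanishing_map B g₂ _ v).2 (h₂.choose_spec.2 _ (by
          rw [← Scheme.Hom.comp_apply]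
          exact fun hh => hv (by rwa [w])))
      by_contra hv'
      have hs : v ∈ EtShriek.sectSupp B V (B.obj.map g₁.op h₁.choose - B.obj.map g₂.op h₂.choose) := by
        rw [EtCore45.sectSupp_eq]; exact hv'
      rcases EtSupp91.sectSupp_sub V _ _ hs with h | h
      · rw [EtCore45.sectSupp_eq] at h; exact h k₁
      · rw [EtCore45.sectSupp_eq] at h; exact h k₂
  obtain ⟨b, hb, -⟩ := isSheafFor_forget B hS x hx
  refine ⟨b, sect_eq_of_local C _ _ fun y => ?_, fun y hy => ?_⟩
  · obtain ⟨V, g, v, hg, hv⟩ := hloc y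
    refine ⟨V, g, v, hv, ?_⟩
    rw [← app_map_eq]
    exact (congrArg (φ.hom.app (op V)) (hb g hg)).trans hg.choose_spec.1
  · by_contra hyT
    obtain ⟨V, g, v, hg, rfl⟩ := hloc y
    rw [EtCore45.sectSupp_eq] at hy
    refine hy ((PBC20.mem_vanishing_map B g b v).1 ?_)
    rw [show B.obj.map g.op b = hg.choose from hb g hg]
    exact hg.choose_spec.2 v hyT

end Groth.Agent.Shriek20
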