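import Groth.Agent.Shriek20.Square
import Groth.Agent.Shriek20.Local
import Groth.Agent.EtSupp91.Comp
import Groth.Prelude.Def_EtCore

/-!
Lifting sections with proper support from geometric fibres.
-/

set_option autoImplicit false
set_option backward.isDefEq.respectTransparency.types false
universe u

open CategoryTheory CategoryTheory.Limits AlgebraicGeometry Opposite
open Groth.Agent.Unr55.EtSh Groth.Agent.EtSupp91
open Groth.Agent.EtCore45 (bcCmp bcCmp_fst)
open Groth.Agent.PBC20 (unitS compE unitTop mtop)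
open Groth.Agent.EtCore45.MV (map_map map_endo)

attribute [local instance high] CategoryStruct.toQuiver

namespace Groth.Agent.Shriek20

section Fib

variable {X Y : Scheme.{u}} (f : X ⟶ Y) {Ω : Type u} [Field Ω] [IsSepClosed Ω]
  {ξ : Spec (CommRingCat.of Ω) ⟶ Y} {W : Scheme.{u}} {p : W ⟶ X} {q : W ⟶ Spec (CommRingCat.of Ω)}

/-- The fibre in a base change along a neighbourhood. -/
noncomputable def fibLift (hw : p ≫ f = q ≫ ξ) {V : Y.Etale} (t : Pt ξ V) : W ⟶ ((EtCoh.bc f).obj V).left :=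
  pullback.lift (q ≫ hom ξ t) p
    ((Category.assoc _ _ _).trans ((congrArg (q ≫ ·) (Over.w t)).trans hw.symm))

theorem fibLift_w (hw : p ≫ f = q ≫ ξ) {V : Y.Etale} (t : Pt ξ V) :
    fibLift f hw t ≫ ((EtCoh.bc f).obj V).hom = p := pullback.lift_snd _ _ _

theorem fibLift_prV (hw : p ≫ f = q ≫ ξ) {V : Y.Etale} (t : Pt ξ V) :
    fibLift f hw t ≫ EtShriek.prV f V = q ≫ hom ξ t := pullback.lift_fst _ _ _

theorem fibLift_map (hw : p ≫ f = q ≫ ξ) {U V : Y.Etale} (g : V ⟶ U) (t : Pt ξ V) :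
    fibLift f hw t ≫ ((EtCoh.bc f).map g).left =
      fibLift f hw ((Scheme.pointSmallEtale ξ).fiber.map g t) := by
  refine pullback.hom_ext ?_ ?_
  · refine (Category.assoc _ _ _).trans ((congrArg (_ ≫ ·) (EtCoh.isPullback_bc_map f g).w).trans ?_)
    refine (Category.assoc _ _ _).symm.trans ((congrArg (· ≫ g.left) (fibLift_prV f hw t)).trans ?_)
    exact (Category.assoc _ _ _).trans ((congrArg (q ≫ ·) (PBC20.hom_fiberMap ξ g t).symm).trans
      (fibLift_prV f hw ((Scheme.pointSmallEtale ξ).fiber.map g t)).symm)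
  · exact (Category.assoc _ _ _).trans ((congrArg (_ ≫ ·) (Over.w ((EtCoh.bc f).map g).hom)).trans
      ((fibLift_w f hw t).trans (fibLift_w f hw _).symm))

theorem isPullback_fibLift (sq : IsPullback p q f ξ) {V : Y.Etale} (t : Pt ξ V) :
    IsPullback (fibLift f sq.w t) q (EtShriek.prV f V) (hom ξ t) := by
  have T : IsPullback (fibLift f sq.w t ≫ pullback.snd V.hom f) q f (hom ξ t ≫ V.hom) :=
    sq.of_iso (Iso.refl _) (Iso.refl _) (Iso.refl _) (Iso.refl _)
      ((Category.comp_id _).trans ((fibLift_w f sq.w t).symm.trans (Category.id_comp _).symm))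
      ((Category.comp_id _).trans (Category.id_comp _).symm) ((Category.comp_id _).trans (Category.id_comp _).symm)
      ((Category.comp_id _).trans ((Over.w t).symm.trans (Category.id_comp _).symm))
  exact T.of_right (fibLift_prV f sq.w t) (IsPullback.of_hasPullback V.hom f).flip

/-- Restriction of a section to the fibre. -/
noncomputable abbrev fibSect (hw : p ≫ f = q ≫ ξ) (F : EtCoh.Ab X) {V : Y.Etale} (t : Pt ξ V) :
    EtCoh.sect F ((EtCoh.bc f).obj V) →+ EtCoh.sect ((EtCoh.pull p).obj F) (EtCoh.top W) :=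
  pullSect p F (fibLift f hw t) (fibLift_w f hw t)

theorem fibSect_map (hw : p ≫ f = q ≫ ξ) (F : EtCoh.Ab X) {U V : Y.Etale} (g : V ⟶ U) (t : Pt ξ V)
    (s : EtCoh.sect F ((EtCoh.bc f).obj U)) :
    fibSect f hw F t (F.obj.map ((EtCoh.bc f).map g).op s) =
      fibSect f hw F ((Scheme.pointSmallEtale ξ).fiber.map g t) s :=
  (pullSect_map p F ((EtCoh.bc f).map g) (fibLift f hw t) (fibLift_w f hw t)
    ((congrArg (· ≫ _) (fibLift_map f hw g t)).trans (fibLift_w f hw _)) s).trans
    (pullSect_congr p F (fibLift_map f hw g t) _ _ s)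

theorem properOver_fibSect [LocallyOfFiniteType f] (sq : IsPullback p q f ξ) {F : EtCoh.Ab X} {V : Y.Etale}
    (t : Pt ξ V) {s : EtCoh.sect F ((EtCoh.bc f).obj V)} (hs : ProperSupp f F V s) :
    ClSub.IsProperOver (X := W) q
      (EtShriek.sectSupp ((EtCoh.pull p).obj F) (EtCoh.top W) (fibSect f sq.w F t s)) := by
  rw [sectSupp_pullSect]
  exact Coh69.PO.preimage_of_isPullback (isPullback_fibLift f sq t) hs

/-- A section with proper support vanishing on the fibre dies on a neighbourhood. -/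
theorem exists_map_eq_zero_of_fibSect (sq : IsPullback p q f ξ) {F : EtCoh.Ab X} {V : Y.Etale}
    (t : Pt ξ V) {s : EtCoh.sect F ((EtCoh.bc f).obj V)} (hs : ProperSupp f F V s)
    (h0 : fibSect f sq.w F t s = 0) :
    ∃ (V' : Y.Etale) (g : V' ⟶ V) (t' : Pt ξ V'), (Scheme.pointSmallEtale ξ).fiber.map g t' = t ∧
      F.obj.map ((EtCoh.bc f).map g).op s = 0 := by
  refine exists_map_eq_zero f t s hs fun y hy => ?_
  have sqt := isPullback_fibLift f sq t
  obtain ⟨z, hz, -⟩ := Scheme.Pullback.exists_preimage_pullback (f := EtShriek.prV f V) (g := hom ξ t) y default hy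
  have h1 : (sqt.isoPullback.inv z : W) ∈ vanishing ((EtCoh.pull p).obj F) (fibSect f sq.w F t s) := by
    rw [h0]
    exact range_le_vanishing _ 0 (𝟙 _) (map_zero _) ⟨_, rfl⟩
  have h2 := (mem_vanishing_pullSect p F _ _ s _).1 h1
  rwa [show fibLift f sq.w t (sqt.isoPullback.inv z) = y from (congr($(sqt.isoPullback_inv_fst) z)).trans hz] at h2

end Fib

/-- Sections with proper support on geometric fibres come from neighbourhoods. -/
def Lifts {X Y : Scheme.{u}} (f : X ⟶ Y) : Prop :=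
  ∀ {Ω : Type u} [Field Ω] [IsSepClosed Ω] (ξ : Spec (CommRingCat.of Ω) ⟶ Y) {W : Scheme.{u}} (p : W ⟶ X)
    (q : W ⟶ Spec (CommRingCat.of Ω)) (sq : IsPullback p q f ξ) (F : EtCoh.Ab X)
    (σ : EtCoh.sect ((EtCoh.pull p).obj F) (EtCoh.top W)),
    ClSub.IsProperOver (X := W) q (EtShriek.sectSupp ((EtCoh.pull p).obj F) (EtCoh.top W) σ) →
      ∃ (V : Y.Etale) (t : Pt ξ V) (s : EtCoh.sect F ((EtCoh.bc f).obj V)),
        ProperSupp f F V s ∧ fibSect f sq.w F t s = σ

theorem unitTop_bijective_of_isIso {A B : Scheme.{u}} (e : A ⟶ B) [IsIso e] (G : EtCoh.Ab B) :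
    Function.Bijective (unitTop e G) :=
  (PBC20.unitTop_bijective_iff _ G).2 (PBC20.bijective_unit_of_flat e G fun K _ _ z => by
    have : IsIso (pullback.snd e z) := inferInstance
    exact (pullback.snd e z).homeomorph.symm.surjective.connectedSpace
      (pullback.snd e z).homeomorph.symm.continuous)

theorem lifts_of_isProper {X Y : Scheme.{u}} (f : X ⟶ Y) [IsProper f] : Lifts f := by
  intro Ω _ _ ξ W p q sq F σ _
  obtain ⟨τ, hτ⟩ := (PBC20.bijective_iso_app
    (compE sq.isoPullback.hom (pullback.fst f ξ) sq.isoPullback_hom_fst F) (EtCoh.top W)).2 σ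
  obtain ⟨τ', rfl⟩ := (unitTop_bijective_of_isIso sq.isoPullback.hom ((EtCoh.pull (pullback.fst f ξ)).obj F)).2 τ
  obtain ⟨a, rfl⟩ := PBC20.phi_surjective f ξ F τ'
  obtain ⟨V, t, s, rfl⟩ := exists_germ_eq ξ ((EtCoh.push f).obj F) a
  refine ⟨V, t, s, ⟨isClosed_sectSupp _ _, ?_⟩, ?_⟩
  · have : IsProper (EtShriek.prV f V) := MorphismProperty.pullback_fst (P := @IsProper) V.hom f ‹_›
    infer_instance
  · let l := fibLift f (pullback.condition (f := f) (g := ξ)) t
    have h1 : PBC20.phi f ξ F (germ ξ ((EtCoh.push f).obj F) t s) =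
        pullSect (pullback.fst f ξ) F l (fibLift_w f _ t) s :=
      (PBC20.phi_germ f ξ F t s).trans ((PBC20.phiApp_apply f ξ F V t s).trans
        (map_unitS_eq (pullback.fst f ξ) F (PBC20.eTop f t) l (pullback.lift_fst _ _ _) (fibLift_w f _ t) s))
    have h2 : sq.isoPullback.hom ≫ l = fibLift f sq.w t := by
      refine pullback.hom_ext ?_ ?_
      · refine (Category.assoc _ _ _).trans ((congrArg (_ ≫ ·) (fibLift_prV f _ t)).trans ?_)
        refine (Category.assoc _ _ _).symm.trans ?_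
        exact (congrArg (· ≫ hom ξ t) sq.isoPullback_hom_snd).trans (fibLift_prV f sq.w t).symm
      · exact (Category.assoc _ _ _).trans ((congrArg (_ ≫ ·) (fibLift_w f _ t)).trans
          (sq.isoPullback_hom_fst.trans (fibLift_w f sq.w t).symm))
    rw [h1] at hτ
    refine Eq.trans ?_ hτ
    refine (pullSect_congr p F h2.symm (fibLift_w f sq.w t)
      ((congrArg (· ≫ _) h2).trans (fibLift_w f sq.w t)) s).trans ?_
    exact (compE_unitTop_pullSect F sq.isoPullback.hom sq.isoPullback_hom_fst l (fibLift_w f _ t) _ s).symm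

section Mono

variable {X Y₀ Y : Scheme.{u}} (f : X ⟶ Y₀) (y : Y₀ ⟶ Y) [IsOpenImmersion y]

theorem lifts_comp_openImmersion [LocallyOfFiniteType f] (hL : Lifts f) : Lifts (f ≫ y) := by
  intro Ω _ _ ξ W p q sq F σ hσ
  by_cases hξ : ξ default ∈ Set.range y
  · let ξ₀ : Spec (CommRingCat.of Ω) ⟶ Y₀ := IsOpenImmersion.lift y ξ (by
      rintro _ ⟨a, rfl⟩
      rwa [Subsingleton.elim a default])
    have hξ₀ : ξ₀ ≫ y = ξ := IsOpenImmersion.lift_fac _ _ _
    have w₀ : p ≫ f = q ≫ ξ₀ := (cancel_mono y).1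
      ((Category.assoc _ _ _).trans (sq.w.trans ((congrArg (q ≫ ·) hξ₀.symm).trans (Category.assoc _ _ _).symm)))
    have sq₀ : IsPullback p q f ξ₀ := ⟨⟨w₀⟩, ⟨PullbackCone.IsLimit.mk w₀
      (fun s => sq.lift s.fst s.snd (by
        rw [← Category.assoc, s.condition, Category.assoc, hξ₀]))
      (fun s => sq.lift_fst _ _ _) (fun s => sq.lift_snd _ _ _)
      (fun s m h₁ h₂ => sq.hom_ext (h₁.trans (sq.lift_fst _ _ _).symm) (h₂.trans (sq.lift_snd _ _ _).symm))⟩⟩
    obtain ⟨V, t, s, hs, rfl⟩ := hL ξ₀ p q sq₀ F σ hσ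
    have : Etale y := inferInstance
    let V' : Y.Etale := (EtShriek.compEtale y).obj V
    let t' : Pt ξ V' := mkPt _ (hom ξ₀ t)
      ((Category.assoc _ _ _).symm.trans ((congrArg (· ≫ y) (Over.w t)).trans hξ₀))
    let k : (EtCoh.bc (f ≫ y)).obj V' ⟶ (EtCoh.bc f).obj V := MorphismProperty.Over.homMk
      (pullback.lift (pullback.fst V'.hom (f ≫ y)) (pullback.snd V'.hom (f ≫ y)) ((cancel_mono y).1
        ((Category.assoc _ _ _).trans (pullback.condition.trans (Category.assoc _ _ _).symm))))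
      (pullback.lift_snd _ _ _) trivial
    have hk : IsIso k.left := ⟨pullback.lift (pullback.fst V.hom f) (pullback.snd V.hom f)
        ((Category.assoc _ _ _).symm.trans ((congrArg (· ≫ y) pullback.condition).trans (Category.assoc _ _ _))),
      pullback.hom_ext
        ((Category.assoc _ _ _).trans ((congrArg (_ ≫ ·) (pullback.lift_fst _ _ _)).trans
          ((pullback.lift_fst _ _ _).trans (Category.id_comp _).symm)))
        ((Category.assoc _ _ _).trans ((congrArg (_ ≫ ·) (pullback.lift_snd _ _ _)).trans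
          ((pullback.lift_snd _ _ _).trans (Category.id_comp _).symm))),
      pullback.hom_ext
        ((Category.assoc _ _ _).trans ((congrArg (_ ≫ ·) (pullback.lift_fst _ _ _)).trans
          ((pullback.lift_fst _ _ _).trans (Category.id_comp _).symm)))
        ((Category.assoc _ _ _).trans ((congrArg (_ ≫ ·) (pullback.lift_snd _ _ _)).trans
          ((pullback.lift_snd _ _ _).trans (Category.id_comp _).symm)))⟩
    refine ⟨V', t', F.obj.map k.op s, ?_, ?_⟩
    · unfold ProperSupp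
      rw [sectSupp_map]
      exact @Coh69.PO.preimage _ _ _ (EtShriek.prV (f ≫ y) V') (EtShriek.prV f V) (lft_prV (f ≫ y) V')
        k.left inferInstance (pullback.lift_fst _ _ _) _ hs
    · have e : fibLift (f ≫ y) sq.w t' ≫ k.left = fibLift f sq₀.w t := by
        refine pullback.hom_ext ?_ ?_
        · refine (Category.assoc _ _ _).trans ((congrArg (_ ≫ ·) (pullback.lift_fst _ _ _)).trans ?_)
          exact (fibLift_prV (f ≫ y) sq.w t').trans (fibLift_prV f sq₀.w t).symm
        · refine (Category.assoc _ _ _).trans ((congrArg (_ ≫ ·) (pullback.lift_snd _ _ _)).trans ?_)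
          exact (fibLift_w (f ≫ y) sq.w t').trans (fibLift_w f sq₀.w t).symm
      exact (pullSect_map p F k _ (fibLift_w (f ≫ y) sq.w t')
        ((congrArg (· ≫ _) e).trans (fibLift_w f sq₀.w t)) s).trans (pullSect_congr p F e _ _ s)
  · let V : Y.Etale := EtCoh.top Y
    refine ⟨V, mkPt _ ξ (Category.comp_id _), 0, properSupp_zero V, ?_⟩
    have : IsEmpty W := ⟨fun z => hξ ⟨f (p z), by
      have e := congrArg (fun k => k z) sq.w
      simp only [Scheme.Hom.comp_apply] at e
      rw [e]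
      exact congrArg ξ (Subsingleton.elim _ _)⟩⟩
    have : IsEmpty (EtCoh.top W).left := ‹IsEmpty W›
    exact (sect_eq_zero_of_isEmpty _ _).trans (sect_eq_zero_of_isEmpty _ σ).symm

end Mono

/-- Proper support over a composition gives proper support of the direct image. -/
theorem properSupp_push {X' X Y : Scheme.{u}} (j : X' ⟶ X) (f : X ⟶ Y) [LocallyOfFiniteType j]
    [LocallyOfFiniteType f] [IsSeparated f] (G : EtCoh.Ab X') (V : Y.Etale)
    (s : EtCoh.sect G ((EtCoh.bc j).obj ((EtCoh.bc f).obj V)))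
    (hs : ProperSupp (j ≫ f) G V (G.obj.map (bcIso j f V).hom.op s)) :
    ProperSupp f ((EtCoh.push j).obj G) V s ∧
      IsClosed (⇑(EtShriek.prV j ((EtCoh.bc f).obj V)) '' EtShriek.sectSupp G _ s) ∧
      EtShriek.sectSupp ((EtCoh.push j).obj G) ((EtCoh.bc f).obj V) s ⊆
        ⇑(EtShriek.prV j ((EtCoh.bc f).obj V)) '' EtShriek.sectSupp G _ s := by
  obtain ⟨h1, h2⟩ := (properSupp_comp_iff j f G V s).1 hs
  let a : EtCoh.sect ((shriek j).obj G) ((EtCoh.bc f).obj V) := ⟨s, mem_shriekSubgroup.2 h1⟩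
  have hsub : EtShriek.sectSupp ((EtCoh.push j).obj G) ((EtCoh.bc f).obj V) s ⊆
      EtShriek.sectSupp ((shriek j).obj G) ((EtCoh.bc f).obj V) a :=
    EtShriek.sectSupp_map_subset ((shriekι j).app G) _ a
  exact ⟨Coh69.PO.mono h2 (isClosed_sectSupp _ _) hsub, isClosed_image h1,
    hsub.trans (sectSupp_shriek j G _ a).le⟩

theorem topLift_eq {X' X Y W₁ W : Scheme.{u}} (π : X' ⟶ X) [LocallyOfFiniteType π] (f : X ⟶ Y) {Ω : Type u} [Field Ω] [IsSepClosed Ω]
    {ξ : Spec (CommRingCat.of Ω) ⟶ Y} {p : W ⟶ X} {q : W ⟶ Spec (CommRingCat.of Ω)} (hw : p ≫ f = q ≫ ξ)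
    (p₁ : W₁ ⟶ X') (π' : W₁ ⟶ W) (w : p₁ ≫ π = π' ≫ p) {q₁ : W₁ ⟶ Spec (CommRingCat.of Ω)} (hq : π' ≫ q = q₁)
    (hw₁ : p₁ ≫ π ≫ f = q₁ ≫ ξ) {V : Y.Etale} (t : Pt ξ V) :
    ((EtCore.bcTopIso π').inv ≫ (EtCoh.bc π').map (liftTop p (fibLift f hw t) (fibLift_w f hw t)) ≫
        bcCmp π p π' p₁ w ((EtCoh.bc f).obj V)).left ≫
      pullback.fst (pullback.snd ((EtCoh.bc f).obj V).hom π) p₁ =
        fibLift (π ≫ f) hw₁ t ≫ (bcIso π f V).hom.left := by
  let L := liftTop p (fibLift f hw t) (fibLift_w f hw t)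
  let i := (EtCore.bcTopIso π').inv
  have hi : i.left ≫ pullback.snd (EtCoh.top W).hom π' = 𝟙 W₁ := MorphismProperty.Over.w i
  have h3 : i.left ≫ EtShriek.prV π' (EtCoh.top W) = π' := by
    have h1 : EtShriek.prV π' (EtCoh.top W) = pullback.snd (EtCoh.top W).hom π' ≫ π' :=
      (Category.comp_id _).symm.trans pullback.condition
    exact ((congrArg (i.left ≫ ·) h1).trans (Category.assoc _ _ _).symm).trans
      ((congrArg (· ≫ π') hi).trans (Category.id_comp π'))
  have hR : (fibLift (π ≫ f) hw₁ t ≫ (bcIso π f V).hom.left) ≫ pullback.snd ((EtCoh.bc f).obj V).hom π = p₁ :=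
    (Category.assoc _ _ _).trans ((congrArg (_ ≫ ·) (MorphismProperty.Over.w (bcIso π f V).hom)).trans
      (fibLift_w (π ≫ f) hw₁ t))
  refine pullback.hom_ext ?_ ?_
  · show ((i.left ≫ ((EtCoh.bc π').map L).left ≫ (bcCmp π p π' p₁ w _).left) ≫ _) ≫ _ = _
    rw [Category.assoc, Category.assoc, Category.assoc]
    refine (congrArg (fun k => i.left ≫ ((EtCoh.bc π').map L).left ≫ k) (bcCmp_fst π p π' p₁ w _)).trans ?_
    refine (congrArg (i.left ≫ ·) ((Category.assoc _ _ _).symm.trans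
      ((congrArg (· ≫ pullback.fst ((EtCoh.bc f).obj V).hom p) (EtCoh.isPullback_bc_map π' L).w).trans
        (Category.assoc _ _ _)))).trans ?_
    refine (congrArg (fun k => i.left ≫ EtShriek.prV π' (EtCoh.top W) ≫ k) (liftTop_fst p _ _)).trans ?_
    refine (Category.assoc _ _ _).symm.trans ((congrArg (· ≫ fibLift f hw t) h3).trans ?_)
    refine pullback.hom_ext ?_ ?_
    · refine (Category.assoc _ _ _).trans ((congrArg (π' ≫ ·) (fibLift_prV f hw t)).trans ?_)
      refine (Category.assoc _ _ _).symm.trans ((congrArg (· ≫ hom ξ t) hq).trans ?_)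
      refine Eq.symm ?_
      refine (Category.assoc _ _ _).trans ((Category.assoc _ _ _).trans ?_)
      exact (congrArg (fibLift (π ≫ f) hw₁ t ≫ ·) (bcIso_pr π f V)).trans (fibLift_prV (π ≫ f) hw₁ t)
    · refine (Category.assoc _ _ _).trans ((congrArg (π' ≫ ·) (fibLift_w f hw t)).trans (w.symm.trans ?_))
      refine Eq.symm ?_
      refine (Category.assoc _ _ _).trans ?_
      refine (congrArg (_ ≫ ·) (pullback.condition (f := ((EtCoh.bc f).obj V).hom) (g := π))).trans ?_
      exact (Category.assoc _ _ _).symm.trans (congrArg (· ≫ π) hR)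
  · refine ((Category.assoc _ _ _).trans ?_).trans hR.symm
    refine (congrArg (_ ≫ ·) pullback.condition).trans ?_
    refine (Category.assoc _ _ _).symm.trans ?_
    exact (congrArg (· ≫ p₁) (MorphismProperty.Over.w (i ≫ (EtCoh.bc π').map L ≫ bcCmp π p π' p₁ w _))).trans
      (Category.id_comp p₁)

end Groth.Agent.Shriek20
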