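import Groth.Agent.Shriek20.CaseOpen
import Groth.Agent.Shriek20.CaseProper
import Groth.Agent.Shriek20.CaseRestrict
import Groth.Agent.Approx60.ChowMain
import Groth.Agent.Approx60.Segre

/-!
Sections with proper support lift from geometric fibres of separated morphisms locally of finite type.
-/

set_option autoImplicit false
set_option backward.isDefEq.respectTransparency.types false
universe u

open CategoryTheory CategoryTheory.Limits AlgebraicGeometry Opposite
open Groth.Agent.Unr55.EtSh Groth.Agent.EtSupp91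

attribute [local instance high] CategoryStruct.toQuiver

namespace Groth.Agent.Shriek20

theorem exists_compact_opens_between {A : Scheme.{u}} {K : Set A} (hK : IsCompact K) (O : A.Opens)
    (hKO : K ⊆ O) : ∃ U : A.Opens, IsCompact (U : Set A) ∧ K ⊆ U ∧ U ≤ O := by
  choose U hU hxU hUO using fun x : K => exists_isAffineOpen_mem_and_subset (U := O) (hKO x.2)
  obtain ⟨t, ht⟩ := hK.elim_finite_subcover (fun x : K => (U x : Set A)) (fun x => (U x).2)
    fun x hx => Set.mem_iUnion.2 ⟨⟨x, hx⟩, hxU _⟩
  refine ⟨t.sup U, ?_, fun x hx => ?_, Finset.sup_le fun x _ => hUO x⟩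
  · rw [TopologicalSpace.Opens.coe_finset_sup, Finset.sup_set_eq_biUnion]
    exact t.finite_toSet.isCompact_biUnion fun x _ => (hU x).isCompact
  · rw [TopologicalSpace.Opens.coe_finset_sup, Finset.sup_set_eq_biUnion]
    exact ht hx

/-- The lifting property for finite type separated morphisms over affine schemes. -/
theorem lifts_affine {X Y : Scheme.{u}} (g : X ⟶ Y) [IsAffine Y] [IsSeparated g] [LocallyOfFiniteType g]
    [QuasiCompact g] : Lifts g := by
  obtain ⟨n, X₁, π, jP, hjP, hw, hπ, hπs⟩ := Approx60.Chow.chow_qcqs g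
  have : IsProper π := hπ
  have : Surjective π := hπs
  have : IsImmersion jP := hjP
  have := Approx60.Segre.isProper_toBase n Y
  have : QuasiCompact jP := by
    have : QuasiCompact (jP ≫ CohB1.ProjSpaceOver.toBase n Y) := by rw [hw]; infer_instance
    exact QuasiCompact.of_comp jP (CohB1.ProjSpaceOver.toBase n Y)
  obtain ⟨Z, g₁, g₂, h₁, h₂, h12⟩ := (IsImmersion.isImmersion_iff_exists_of_quasiCompact (f := jP)).1 hjP
  have hL : Lifts (g₁ ≫ g₂ ≫ CohB1.ProjSpaceOver.toBase n Y) :=
    lifts_openImmersion_comp g₁ _ (lifts_of_isProper _)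
  rw [← Category.assoc, h12, hw] at hL
  intro Ω _ _ ξ W p q sq F σ hσ
  exact lifts_of_proper_surjective π g @hL ξ p q sq F σ hσ

/-- Sections with proper support lift from geometric fibres. -/
theorem lifts {X Y : Scheme.{u}} (f : X ⟶ Y) [IsSeparated f] [LocallyOfFiniteType f] : Lifts f := by
  intro Ω _ _ ξ W p q sq F σ hσ
  obtain ⟨U, hU, hξU, -⟩ := exists_isAffineOpen_mem_and_subset (U := (⊤ : Y.Opens)) (x := ξ default) trivial
  obtain ⟨R, i, hi, -, hr, hp⟩ := Coh69.PO.exists_model hσ
  have : CompactSpace R := QuasiCompact.compactSpace_of_compactSpace (i ≫ q)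
  have hK : IsCompact (⇑p '' Set.range i) := (isCompact_range i.continuous).image p.continuous
  have hsub : ⇑p '' Set.range i ⊆ f ⁻¹ᵁ U := by
    rintro _ ⟨z, -, rfl⟩
    have e : f (p z) = ξ (q z) :=
      (Scheme.Hom.comp_apply _ _ z).symm.trans ((congrArg (fun m => m z) sq.w).trans (Scheme.Hom.comp_apply _ _ z))
    show f (p z) ∈ U
    rw [e, Subsingleton.elim (q z) default]
    exact hξU
  obtain ⟨W₀, hW₀, hKW, hW₀U⟩ := exists_compact_opens_between hK _ hsub
  have : CompactSpace W₀.toScheme := isCompact_iff_compactSpace.1 hW₀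
  have : IsAffine U.toScheme := hU
  let g := f.resLE U W₀ hW₀U
  have hg : g ≫ U.ι = W₀.ι ≫ f := Scheme.Hom.resLE_comp_ι f hW₀U
  have : IsSeparated g := by
    have : IsSeparated (g ≫ U.ι) := by rw [hg]; infer_instance
    exact IsSeparated.of_comp g U.ι
  have : LocallyOfFiniteType g := by
    have : LocallyOfFiniteType (g ≫ U.ι) := by rw [hg]; infer_instance
    exact locallyOfFiniteType_of_comp g U.ι
  have : QuasiCompact g := (HasAffineProperty.iff_of_isAffine (P := @QuasiCompact) (f := g)).2 inferInstance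
  have hL : Lifts (g ≫ U.ι) := lifts_comp_openImmersion g U.ι (lifts_affine g)
  rw [hg] at hL
  refine lifts_of_openImmersion W₀.ι f @hL sq F σ hσ fun z hz => ?_
  rw [W₀.range_ι]
  exact hKW ⟨z, hr.ge hz, rfl⟩

end Groth.Agent.Shriek20
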