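import Groth.Agent.Shriek20.Discrete
import Groth.Agent.Shriek20.Fibre
import Groth.Agent.PBC51.Van.ProperGood

/-!
Geometric fibres of direct images with proper supports along quasi-finite morphisms.
-/

set_option autoImplicit false
set_option backward.isDefEq.respectTransparency.types false
set_option linter.unusedSectionVars false
universe u

open CategoryTheory CategoryTheory.Limits AlgebraicGeometry Opposite
open Groth.Agent.Unr55.EtSh Groth.Agent.EtCore45

namespace Groth.Agent.Shriek20

variable {P : Scheme.{u}} {k : Type u} [Field k]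

/-- A locally quasi-finite scheme over a field is discrete. -/
theorem discreteTopology_of_lqf (p : P ⟶ Spec (CommRingCat.of k)) [LocallyQuasiFinite p] :
    DiscreteTopology P := by
  have hs : Subsingleton (Spec (CommRingCat.of k)) := inferInstanceAs (Subsingleton (PrimeSpectrum k))
  have h : p ⁻¹' {default} = Set.univ := Set.eq_univ_of_forall fun x => hs.elim _ _
  exact isDiscrete_univ_iff.1 (h ▸ p.isDiscrete_preimage_singleton default)

/-- The open subscheme on one point of a discrete scheme. -/
def ptOpens (P : Scheme.{u}) [DiscreteTopology P] (x : P) : P.Opens := ⟨{x}, isOpen_discrete _⟩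

/-- One point of a quasi-finite scheme over a field is finite over it. -/
theorem isFinite_ptOpens (p : P ⟶ Spec (CommRingCat.of k)) [LocallyQuasiFinite p] [DiscreteTopology P] (x : P) :
    IsFinite ((ptOpens P x).ι ≫ p) := by
  have : Subsingleton (ptOpens P x).toScheme := ⟨fun a b => Subtype.ext (a.2.trans b.2.symm)⟩
  have : CompactSpace (ptOpens P x).toScheme := inferInstance
  have : QuasiCompact ((ptOpens P x).ι ≫ p) := quasiCompact_of_compactSpace _
  exact IsFinite.of_locallyQuasiFinite _

/-- Supports of direct images with proper supports along a quasi-finite morphism consist of closed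
points of the geometric fibres of the composition. -/
theorem isClosed_supp_fibre {X Y Z : Scheme.{u}} (f : X ⟶ Y) (h : Y ⟶ Z) [IsSeparated f] [LocallyOfFiniteType f]
    [LocallyQuasiFinite f] [LocallyQuasiFinite (f ≫ h)] [LocallyOfFiniteType h] (F : EtCoh.Ab X) [IsSepClosed k]
    (ξ : Spec (CommRingCat.of k) ⟶ Z) (y : ↥(pullback h ξ))
    (hy : y ∈ EtPBC.supp ((EtCoh.pull (pullback.fst h ξ)).obj ((EtShriek.lowerShriek f).obj F))) :
    IsClosed ({y} : Set ↥(pullback h ξ)) := by
  obtain ⟨Ω, _, _, η, hη, hne⟩ := hy
  let L := AlgebraicClosure Ω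
  let c : Spec (CommRingCat.of L) ⟶ Spec (CommRingCat.of Ω) := Spec.map (CommRingCat.ofHom (algebraMap Ω L))
  let η' := c ≫ η
  let ζ := η' ≫ pullback.fst h ξ
  obtain ⟨v⟩ : Nonempty (EtSupp91.Fib f ζ) := by
    by_contra hemp
    rw [not_nonempty_iff] at hemp
    refine hne (@AddCommGrpCat.isZero_of_subsingleton _ ?_)
    have h0 : Subsingleton ((EtCoh.stalk ζ).obj ((EtShriek.lowerShriek f).obj F) : AddCommGrpCat.{u + 1}) :=
      ⟨fun a b => by
        let i := (EtCoh.stalk ζ).mapIso ((EtSupp91.lowerShriekIso f).app F)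
        have e : i.hom a = i.hom b := EtSupp91.shriek_stalk_ext fun w => hemp.elim w
        rw [← i.hom_inv_id_apply a, e, i.hom_inv_id_apply]⟩
    have h1 : Subsingleton ((EtCoh.stalk η').obj
        ((EtCoh.pull (pullback.fst h ξ)).obj ((EtShriek.lowerShriek f).obj F)) : AddCommGrpCat.{u + 1}) :=
      (theta_bijective (pullback.fst h ξ) η' _).surjective.subsingleton
    exact (Cons51.stalkExt_bijective c η _).injective.subsingleton
  have hw : (v.1 : Spec (CommRingCat.of L) ⟶ X) ≫ f ≫ h = (η' ≫ pullback.snd h ξ) ≫ ξ := by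
    rw [← Category.assoc, v.2, Category.assoc, Category.assoc, pullback.condition]
    simp only [η', Category.assoc]
  let m : pullback (f ≫ h) ξ ⟶ pullback h ξ :=
    pullback.lift (pullback.fst (f ≫ h) ξ ≫ f) (pullback.snd (f ≫ h) ξ) (by rw [Category.assoc, pullback.condition])
  let w : Spec (CommRingCat.of L) ⟶ pullback (f ≫ h) ξ := pullback.lift v.1 (η' ≫ pullback.snd h ξ) hw
  have hm : w ≫ m = η' := pullback.hom_ext
    ((Category.assoc _ _ _).trans ((congrArg (w ≫ ·) (pullback.lift_fst _ _ _)).trans
      ((Category.assoc _ _ _).symm.trans ((congrArg (· ≫ f) (pullback.lift_fst _ _ _)).trans v.2))))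
    ((Category.assoc _ _ _).trans ((congrArg (w ≫ ·) (pullback.lift_snd _ _ _)).trans (pullback.lift_snd _ _ _)))
  have := discreteTopology_of_lqf (pullback.snd (f ≫ h) ξ)
  have hmy : m (w default) = y := by
    rw [← Scheme.Hom.comp_apply, hm]
    exact hη.le ⟨c default, rfl⟩
  have : LocallyOfFiniteType (f ≫ h) := inferInstance
  have : LocallyOfFiniteType m := by
    have : LocallyOfFiniteType (m ≫ pullback.snd h ξ) := by
      rw [pullback.lift_snd]; infer_instance
    exact locallyOfFiniteType_of_comp m (pullback.snd h ξ)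
  have : JacobsonSpace ↥(pullback h ξ) := LocallyOfFiniteType.jacobsonSpace (pullback.snd h ξ)
  have hcl : w default ∈ closedPoints ↥(pullback (f ≫ h) ξ) := isClosed_discrete _
  exact hmy ▸ Scheme.Hom.closePoints_subset_preimage_closedPoints m hcl

/-- Acyclic torsion sheaves on the source of a proper morphism stay acyclic on the geometric fibres
of their direct image with proper supports along a quasi-finite morphism. -/
theorem subsingleton_H_fibre {X Y X' Y' : Scheme.{u}} (f : X ⟶ Y) (g : Y' ⟶ Y) (f' : X' ⟶ Y') (g' : X' ⟶ X)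
    (w : g' ≫ f = f' ≫ g) [IsProper f] [IsProper f'] [LocallyOfFiniteType g] [LocallyQuasiFinite g]
    [IsSeparated g'] [LocallyOfFiniteType g'] [LocallyQuasiFinite g'] (T : EtCoh.Ab X') (hT : EtCoh.IsTorsion T)
    (hq : PBC51.QAcyclic T) [IsSepClosed k] (ξ : Spec (CommRingCat.of k) ⟶ Y) (q : ℕ) :
    Subsingleton (EtCoh.H (pullback f ξ)
      ((EtCoh.pull (pullback.fst f ξ)).obj ((EtShriek.lowerShriek g').obj T)) (q + 1)) := by
  let Q := pullback g' (pullback.fst f ξ)
  let p : Q ⟶ X' := pullback.fst g' (pullback.fst f ξ)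
  let gx : Q ⟶ pullback f ξ := pullback.snd g' (pullback.fst f ξ)
  have hp : p ≫ f' ≫ g = (gx ≫ pullback.snd f ξ) ≫ ξ := by
    rw [← w, ← Category.assoc, pullback.condition, Category.assoc, Category.assoc, pullback.condition]
  let fy : Q ⟶ pullback g ξ := pullback.lift (p ≫ f') (gx ≫ pullback.snd f ξ) (by rw [Category.assoc]; exact hp)
  have hQ : IsPullback p fy f' (pullback.fst g ξ) := by
    refine IsPullback.of_bot ?_ (pullback.lift_fst _ _ _).symm (IsPullback.of_hasPullback g ξ)
    rw [show fy ≫ pullback.snd g ξ = gx ≫ pullback.snd f ξ from pullback.lift_snd _ _ _, ← w]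
    exact (IsPullback.of_hasPullback g' (pullback.fst f ξ)).paste_vert (IsPullback.of_hasPullback f ξ)
  have : IsProper fy := MorphismProperty.of_isPullback hQ inferInstance
  have : CompactSpace ↥(pullback f ξ) := QuasiCompact.compactSpace_of_compactSpace (pullback.snd f ξ)
  have : QuasiSeparatedSpace ↥(pullback f ξ) := quasiSeparatedSpace_of_quasiSeparated (pullback.snd f ξ)
  have hdY := discreteTopology_of_lqf (pullback.snd g ξ)
  let α : Type (u + 1) := ULift.{u + 1} ↥(pullback g ξ)
  let U : α → Q.Opens := fun a => fy ⁻¹ᵁ ptOpens _ a.down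
  obtain ⟨e⟩ := nonempty_baseChange_iso g' T (pullback.fst f ξ) gx p (IsPullback.of_hasPullback g' (pullback.fst f ξ))
  suffices Subsingleton (EtCoh.H (pullback f ξ)
      ((EtShriek.lowerShriek gx).obj ((EtCoh.pull p).obj T)) (q + 1)) from
    @Cons51.subsingleton_H_of_iso _ _ _ e (q + 1) this
  refine subsingleton_H_shriek_pieces gx U (fun x => ⟨⟨fy x⟩, rfl⟩)
    (fun a b x ha hb => ULift.ext _ _ ((ha : fy x = a.down).symm.trans hb)) (fun a => ?_) _ q (fun a => ?_)
  · have hO := isFinite_ptOpens (pullback.snd g ξ) a.down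
    have h1 : IsProper (fy ∣_ ptOpens _ a.down) := IsZariskiLocalAtTarget.restrict ‹IsProper fy› _
    have : IsProper (((U a).ι ≫ gx) ≫ pullback.snd f ξ) := by
      rw [Category.assoc, show gx ≫ pullback.snd f ξ = fy ≫ pullback.snd g ξ from (pullback.lift_snd _ _ _).symm,
        ← Category.assoc, show (U a).ι ≫ fy = (fy ∣_ ptOpens _ a.down) ≫ (ptOpens _ a.down).ι from
          (morphismRestrict_ι _ _).symm, Category.assoc]
      infer_instance
    have : IsProper ((U a).ι ≫ gx) := IsProper.of_comp _ (pullback.snd f ξ)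
    have : LocallyQuasiFinite gx := MorphismProperty.pullback_snd _ _ inferInstance
    exact IsFinite.of_isProper_of_locallyQuasiFinite _
  · let O := ptOpens (pullback g ξ) a.down
    let S := pullback g ξ
    let ρ : Spec (S.residueField a.down) ⟶ S := S.fromSpecResidueField a.down
    have : IsClosedImmersion ρ := (isClosed_singleton_iff_isClosedImmersion (x := a.down)).1 (isClosed_discrete _)
    have hsep : IsSepClosed (S.residueField a.down) :=
      Cons51.isSepClosed_residueField_closed (pullback.snd g ξ) (isClosed_discrete _)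
    let κ : Type u := S.residueField a.down
    let : Field κ := inferInstanceAs (Field (S.residueField a.down))
    have : IsSepClosed κ := hsep
    have : IsSepClosed (IsLocalRing.ResidueField κ) :=
      Unr55.isSepClosed_of_surjective (IsLocalRing.residue κ) IsLocalRing.residue_surjective
    let ρ' : Spec (CommRingCat.of κ) ⟶ S := ρ
    let R := pullback fy ρ
    let r : R ⟶ Q := pullback.fst fy ρ
    have hr : Set.range r = (U a : Set Q) := by
      rw [Scheme.Pullback.range_fst, Scheme.range_fromSpecResidueField]; rfl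
    have hl : Set.range r ⊆ Set.range (U a).ι := by rw [hr, Scheme.Opens.range_ι]
    let i : R ⟶ (U a).toScheme := IsOpenImmersion.lift (U a).ι r hl
    have hi : i ≫ (U a).ι = r := IsOpenImmersion.lift_fac _ _ _
    have : IsClosedImmersion r := MorphismProperty.pullback_fst _ _ inferInstance
    have : IsClosedImmersion i := by
      have : IsClosedImmersion (i ≫ (U a).ι) := hi.symm ▸ inferInstance
      exact IsClosedImmersion.of_comp i (U a).ι
    have : Surjective i := ⟨fun x => by
      obtain ⟨z, hz⟩ : (U a).ι x ∈ Set.range r := hr.ge x.2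
      exact ⟨z, (U a).ι.isEmbedding.injective (by rw [← Scheme.Hom.comp_apply, hi, hz])⟩⟩
    have hv : PBC51.Van.Vanish R ((EtCoh.pull (r ≫ p)).obj T) (q + 1) :=
      (PBC51.Van.good_of_isProper f').vanish (A := κ) (a := ρ' ≫ pullback.fst g ξ) hT hq
        ((IsPullback.of_hasPullback fy ρ).paste_horiz hQ) q
    refine (PBC51.Van.vanish_uh i _ _).1 ?_
    exact (PBC51.Van.vanish_comp i (U a).ι hi _ _).2 ((PBC51.Van.vanish_comp r p rfl _ _).2 hv)

end Groth.Agent.Shriek20
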