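import Groth.Agent.PBC20.Stalk
import Groth.Agent.EtCore45.Vanish
import Groth.Agent.EtSupp91.Basic

/-!
Sections of inverse images given by lifts to etale schemes over the base.
-/

set_option autoImplicit false
set_option backward.isDefEq.respectTransparency.types false
universe u

open CategoryTheory CategoryTheory.Limits AlgebraicGeometry Opposite
open Groth.Agent.Unr55.EtSh
open Groth.Agent.PBC20 (unitS compE unitTop mtop)
open Groth.Agent.EtCore45.MV (map_map map_endo)

attribute [local instance high] CategoryStruct.toQuiver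

namespace Groth.Agent.Shriek20

variable {W X : Scheme.{u}} (q : W ⟶ X)

/-- A lift to an etale scheme as a map from the final object. -/
noncomputable def liftTop {U : X.Etale} (l : W ⟶ U.left) (hl : l ≫ U.hom = q) :
    EtCoh.top W ⟶ (EtCoh.bc q).obj U :=
  MorphismProperty.Over.homMk (pullback.lift l (𝟙 W) (hl.trans (Category.id_comp _).symm))
    (pullback.lift_snd _ _ _) trivial

theorem liftTop_fst {U : X.Etale} (l : W ⟶ U.left) (hl : l ≫ U.hom = q) :
    (liftTop q l hl).left ≫ pullback.fst U.hom q = l := pullback.lift_fst _ _ _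

theorem hom_ext_bc {T : W.Etale} {U : X.Etale} {a b : T ⟶ (EtCoh.bc q).obj U}
    (h : a.left ≫ pullback.fst U.hom q = b.left ≫ pullback.fst U.hom q) : a = b :=
  MorphismProperty.Over.Hom.ext (pullback.hom_ext h ((Over.w a.hom).trans (Over.w b.hom).symm))

variable (A : EtCoh.Ab X)

/-- The section of the inverse image given by a section and a lift. -/
noncomputable def pullSect {U : X.Etale} (l : W ⟶ U.left) (hl : l ≫ U.hom = q) :
    EtCoh.sect A U →+ EtCoh.sect ((EtCoh.pull q).obj A) (EtCoh.top W) :=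
  (((EtCoh.pull q).obj A).obj.map (liftTop q l hl).op).hom.comp
    (((EtCoh.pullPushAdj q).unit.app A).hom.app (op U)).hom

theorem pullSect_apply {U : X.Etale} (l : W ⟶ U.left) (hl : l ≫ U.hom = q) (a : EtCoh.sect A U) :
    pullSect q A l hl a = ((EtCoh.pull q).obj A).obj.map (liftTop q l hl).op (unitS q A U a) := rfl

theorem map_unitS_eq {U : X.Etale} (e : EtCoh.top W ⟶ (EtCoh.bc q).obj U) (l : W ⟶ U.left)
    (he : e.left ≫ pullback.fst U.hom q = l) (hl : l ≫ U.hom = q) (a : EtCoh.sect A U) :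
    ((EtCoh.pull q).obj A).obj.map e.op (unitS q A U a) = pullSect q A l hl a :=
  congrArg (fun k : EtCoh.top W ⟶ (EtCoh.bc q).obj U => ((EtCoh.pull q).obj A).obj.map k.op (unitS q A U a))
    (hom_ext_bc q (he.trans (liftTop_fst q l hl).symm))

theorem pullSect_congr {U : X.Etale} {l l' : W ⟶ U.left} (e : l = l') (hl : l ≫ U.hom = q) (hl' : l' ≫ U.hom = q)
    (a : EtCoh.sect A U) : pullSect q A l hl a = pullSect q A l' hl' a := by
  subst e
  rfl

theorem pullSect_map {U V : X.Etale} (g : V ⟶ U) (l : W ⟶ V.left) (hl : l ≫ V.hom = q)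
    (hl' : (l ≫ g.left) ≫ U.hom = q) (a : EtCoh.sect A U) :
    pullSect q A l hl (A.obj.map g.op a) = pullSect q A (l ≫ g.left) hl' a := by
  refine (congrArg _ (PBC20.unitS_map q A g a).symm).trans ((map_map _ _ _ _).trans ?_)
  refine map_unitS_eq q A (liftTop q l hl ≫ (EtCoh.bc q).map g) _ ?_ hl' a
  refine (Category.assoc _ _ _).trans ((congrArg (_ ≫ ·) (EtCoh.isPullback_bc_map q g).w).trans ?_)
  exact (Category.assoc _ _ _).symm.trans (congrArg (· ≫ g.left) (liftTop_fst q l hl))

theorem pullSect_natural {B : EtCoh.Ab X} (φ : A ⟶ B) {U : X.Etale} (l : W ⟶ U.left) (hl : l ≫ U.hom = q)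
    (a : EtCoh.sect A U) :
    ((EtCoh.pull q).map φ).hom.app (op (EtCoh.top W)) (pullSect q A l hl a) =
      pullSect q B l hl (φ.hom.app (op U) a) := by
  refine (NatTrans.naturality_apply ((EtCoh.pull q).map φ).hom (liftTop q l hl).op _).trans ?_
  refine congrArg _ ?_
  exact ConcreteCategory.congr_hom (congrArg (fun k => k.hom.app (op U))
    ((EtCoh.pullPushAdj q).unit.naturality φ)).symm a

theorem mem_vanishing_pullSect {U : X.Etale} (l : W ⟶ U.left) (hl : l ≫ U.hom = q) (a : EtCoh.sect A U) (z : W) :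
    z ∈ vanishing ((EtCoh.pull q).obj A) (pullSect q A l hl a) ↔ l z ∈ vanishing A a := by
  refine (PBC20.mem_vanishing_map _ (liftTop q l hl) _ z).trans ((PBC20.mem_vanishing_unitS q A U a _).trans ?_)
  have e : PBC20.proj q U ((liftTop q l hl).left z) = l z :=
    (Scheme.Hom.comp_apply _ _ z).symm.trans (congrArg (fun k => k z) (liftTop_fst q l hl))
  exact iff_of_eq (congrArg (· ∈ vanishing A a) e)

theorem sectSupp_pullSect {U : X.Etale} (l : W ⟶ U.left) (hl : l ≫ U.hom = q) (a : EtCoh.sect A U) :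
    EtShriek.sectSupp ((EtCoh.pull q).obj A) (EtCoh.top W) (pullSect q A l hl a) =
      l ⁻¹' EtShriek.sectSupp A U a := by
  rw [EtCore45.sectSupp_eq, EtCore45.sectSupp_eq]
  ext z
  exact not_congr (mem_vanishing_pullSect q A l hl a z)

variable {q}

theorem compE_map_pullSect {T : Scheme.{u}} (j : T ⟶ W) {h : T ⟶ X} (w : j ≫ q = h) {U : X.Etale}
    (l : T ⟶ ((EtCoh.bc q).obj U).left) (hl : l ≫ ((EtCoh.bc q).obj U).hom = j)
    (hl' : (l ≫ pullback.fst U.hom q) ≫ U.hom = h) (a : EtCoh.sect A U) :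
    (compE j q w A).hom.hom.app (op (EtCoh.top T)) (pullSect j ((EtCoh.pull q).obj A) l hl (unitS q A U a)) =
      pullSect h A (l ≫ pullback.fst U.hom q) hl' a := by
  refine (congrArg (ConcreteCategory.hom ((compE j q w A).hom.hom.app (op (EtCoh.top T))))
    (pullSect_apply j ((EtCoh.pull q).obj A) l hl (unitS q A U a))).trans ?_
  refine (PBC20.compE_map j q w A (liftTop j l hl) (liftTop h _ hl') ?_ a).trans
    (pullSect_apply h A _ hl' a).symm
  refine (Category.assoc _ _ _).symm.trans ((congrArg (· ≫ pullback.fst U.hom q) (liftTop_fst j l hl)).trans ?_)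
  exact (liftTop_fst h _ hl').symm

theorem compE_unitTop_pullSect {T : Scheme.{u}} (j : T ⟶ W) {h : T ⟶ X} (w : j ≫ q = h) {U : X.Etale}
    (l : W ⟶ U.left) (hl : l ≫ U.hom = q) (hl' : (j ≫ l) ≫ U.hom = h) (a : EtCoh.sect A U) :
    (compE j q w A).hom.hom.app (op (EtCoh.top T)) (unitTop j ((EtCoh.pull q).obj A) (pullSect q A l hl a)) =
      pullSect h A (j ≫ l) hl' a :=
  by
  refine (congrArg (fun b => (compE j q w A).hom.hom.app (op (EtCoh.top T)) (unitTop j ((EtCoh.pull q).obj A) b))
    (pullSect_apply q A l hl a)).trans ?_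
  refine Eq.trans ?_ (pullSect_apply h A _ hl' a).symm
  refine (congrArg (ConcreteCategory.hom ((compE j q w A).hom.hom.app (op (EtCoh.top T))))
    (PBC20.sect_map_unitS j ((EtCoh.pull q).obj A) (liftTop q l hl) (unitS q A U a))).trans ?_
  exact PBC20.compE_map j q w A (mtop j ≫ (EtCoh.bc j).map (liftTop q l hl)) (liftTop h _ hl')
    ((PBC20.mtop_bc_fst j q (liftTop q l hl) l (liftTop_fst q l hl)).trans (liftTop_fst h _ hl').symm) a

theorem mem_vanishing_unitTop {T : Scheme.{u}} (j : T ⟶ W) (B : EtCoh.Ab W) (b : EtCoh.sect B (EtCoh.top W)) (z : T) :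
    z ∈ vanishing ((EtCoh.pull j).obj B) (unitTop j B b) ↔ j z ∈ vanishing B b := by
  refine (PBC20.mem_vanishing_map _ (mtop j) _ z).trans ((PBC20.mem_vanishing_unitS j B _ b _).trans ?_)
  have e : PBC20.proj j (EtCoh.top W) ((mtop j).left z) = j z :=
    (Scheme.Hom.comp_apply _ _ z).symm.trans (congrArg (fun k : T ⟶ W => k z) (show
      (mtop j).left ≫ pullback.fst (𝟙 W) j = j from pullback.lift_fst _ _ _))
  exact iff_of_eq (congrArg (· ∈ vanishing B b) e)

theorem sect_injective_of_mono {Z : Scheme.{u}} {B C : EtCoh.Ab Z} (φ : B ⟶ C) [Mono φ] (U : Z.Etale) :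
    Function.Injective (φ.hom.app (op U)) := by
  have : Mono φ.hom := Functor.map_mono (sheafToPresheaf Z.smallEtaleTopology AddCommGrpCat.{u + 1}) φ
  exact (AddCommGrpCat.mono_iff_injective _).1 inferInstance

theorem mem_vanishing_app_of_le {Z : Scheme.{u}} {B C : EtCoh.Ab Z} (φ : B ⟶ C) {U : Z.Etale}
    (b : EtCoh.sect B U) : vanishing B b ≤ vanishing C (φ.hom.app (op U) b) := fun x hx => by
  by_contra h
  have h' : x ∈ EtShriek.sectSupp C U (φ.hom.app (op U) b) := by rw [EtCore45.sectSupp_eq]; exact h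
  have := EtShriek.sectSupp_map_subset φ U b h'
  rw [EtCore45.sectSupp_eq] at this
  exact this hx

theorem sectSupp_app_of_injective {Z : Scheme.{u}} {B C : EtCoh.Ab Z} (φ : B ⟶ C)
    (hφ : ∀ V, Function.Injective (φ.hom.app (op V))) {U : Z.Etale} (b : EtCoh.sect B U) :
    EtShriek.sectSupp C U (φ.hom.app (op U) b) = EtShriek.sectSupp B U b := by
  refine subset_antisymm (EtShriek.sectSupp_map_subset φ U b) fun x hx V g hg h0 => hx V g hg ?_
  exact hφ V (((NatTrans.naturality_apply φ.hom g.op b).trans h0).trans (map_zero _).symm)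

/-- Inverse images preserve monomorphisms. -/
theorem mono_pull {B C : EtCoh.Ab X} (φ : B ⟶ C) [Mono φ] : Mono ((EtCoh.pull q).map φ) := by
  refine mono_of_stalks _ fun K _ _ η => ?_
  refine (injective_iff_map_eq_zero ((EtCoh.stalk η).map ((EtCoh.pull q).map φ)).hom).2 fun a ha => ?_
  obtain ⟨b, rfl⟩ := (theta_bijective q η B).2 a
  obtain ⟨V, t, σ, rfl⟩ := exists_germ_eq (η ≫ q) B b
  have e : germ η ((EtCoh.pull q).obj C) (ptUp q η t) (unitS q C V (φ.hom.app (op V) σ)) = 0 := by
    refine Eq.trans ?_ ha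
    show _ = (EtCoh.stalk η).map ((EtCoh.pull q).map φ) _
    rw [theta_germ, stalk_map_germ]
    exact congrArg _ (ConcreteCategory.congr_hom (congrArg (fun k => k.hom.app (op V))
      ((EtCoh.pullPushAdj q).unit.naturality φ)) σ)
  rw [← theta_germ] at e
  have e' := (theta_bijective q η C).1 (e.trans (map_zero _).symm)
  obtain ⟨V', g, t', h1, h2⟩ := (germ_eq_zero_iff (η ≫ q) C t _).1 e'
  have h3 : B.obj.map g.op σ = 0 := sect_injective_of_mono φ V'
    (((NatTrans.naturality_apply φ.hom g.op σ).trans h2).trans (map_zero _).symm)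
  rw [(germ_eq_zero_iff (η ≫ q) B t σ).2 ⟨V', g, t', h1, h3⟩, map_zero]

end Groth.Agent.Shriek20
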