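import Groth.Agent.Shriek20.PullSect
import Groth.Agent.EtSupp91.Shriek
import Groth.Agent.EtCore45.BaseChange

/-!
Base change of sections with proper support.
-/

set_option autoImplicit false
set_option backward.isDefEq.respectTransparency.types false
universe u

open CategoryTheory CategoryTheory.Limits AlgebraicGeometry Opposite
open Groth.Agent.Unr55.EtSh Groth.Agent.EtSupp91
open Groth.Agent.EtCore45 (bcCmp bcCmp_fst unit_bc0_app)
open Groth.Agent.PBC20 (unitS)

attribute [local instance high] CategoryStruct.toQuiver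

namespace Groth.Agent.Shriek20

/-- The image of a set proper over the base is closed. -/
theorem isClosed_image {A S : Scheme.{u}} {p : A ⟶ S} {Z : Set A} (h : ClSub.IsProperOver p Z) :
    IsClosed (⇑p '' Z) := by
  obtain ⟨R, i, hi, -, hr, hp⟩ := Coh69.PO.exists_model h
  have := (i ≫ p).isClosedMap.isClosed_range
  rw [← hr, ← Set.range_comp]
  convert this using 2
  exact funext fun r => (Scheme.Hom.comp_apply i p r).symm

section Shrink

variable {X Y : Scheme.{u}} (f : X ⟶ Y) [LocallyOfFiniteType f] {F : EtCoh.Ab X} {Ω : Type u} [Field Ω]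
  [IsSepClosed Ω] {ξ : Spec (CommRingCat.of Ω) ⟶ Y}

omit [LocallyOfFiniteType f] in
/-- A section with proper support vanishing along the fibre dies on a neighbourhood. -/
theorem exists_map_eq_zero {V : Y.Etale} (t : Pt ξ V) (s : EtCoh.sect F ((EtCoh.bc f).obj V))
    (hs : ProperSupp f F V s)
    (h : ∀ y, EtShriek.prV f V y = hom ξ t default → y ∈ vanishing F s) :
    ∃ (V' : Y.Etale) (g : V' ⟶ V) (t' : Pt ξ V'), (Scheme.pointSmallEtale ξ).fiber.map g t' = t ∧
      F.obj.map ((EtCoh.bc f).map g).op s = 0 := by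
  let O : V.left.Opens := ⟨_, (isClosed_image hs).isOpen_compl⟩
  have hu : hom ξ t default ∈ O := by
    rintro ⟨y, hy, hyu⟩
    rw [EtCore45.sectSupp_eq] at hy
    exact hy (h y hyu)
  refine ⟨_, openSubι V O, ptOpen O t hu, map_ptOpen O t hu, ?_⟩
  refine map_eq_zero_of_disjoint ((EtCoh.bc f).map (openSubι V O)) s (subset_refl _) fun p hp => ?_
  have e : EtShriek.prV f V (((EtCoh.bc f).map (openSubι V O)).left p) =
      (openSubι V O).left (EtShriek.prV f (openSub V O) p) :=
    (Scheme.Hom.comp_apply _ _ p).symm.trans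
      ((congrArg (fun k => k p) (EtCoh.isPullback_bc_map f (openSubι V O)).w).trans
        (Scheme.Hom.comp_apply _ _ p))
  exact (range_openSubι V O).le ⟨_, rfl⟩ ⟨_, hp, e⟩

end Shrink

variable {X Y X' Y' : Scheme.{u}} (f : X ⟶ Y) (g : Y' ⟶ Y) (f' : X' ⟶ Y') (g' : X' ⟶ X)
  (w : g' ≫ f = f' ≫ g) (F : EtCoh.Ab X)

/-- The projection between iterated base changes. -/
noncomputable abbrev bcProj (V : Y.Etale) :
    ((EtCoh.bc f').obj ((EtCoh.bc g).obj V)).left ⟶ ((EtCoh.bc f).obj V).left :=
  (bcCmp f g f' g' w V).left ≫ pullback.fst (pullback.snd V.hom f) g'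

theorem bcProj_prV (V : Y.Etale) :
    bcProj f g f' g' w V ≫ EtShriek.prV f V =
      EtShriek.prV f' ((EtCoh.bc g).obj V) ≫ pullback.fst V.hom g :=
  (Category.assoc _ _ _).trans (bcCmp_fst f g f' g' w V)

theorem bcProj_snd (V : Y.Etale) :
    bcProj f g f' g' w V ≫ pullback.snd V.hom f =
      ((EtCoh.bc f').obj ((EtCoh.bc g).obj V)).hom ≫ g' :=
  (Category.assoc _ _ _).trans ((congrArg (_ ≫ ·) pullback.condition).trans
    ((Category.assoc _ _ _).symm.trans (congrArg (· ≫ g') (Over.w (bcCmp f g f' g' w V).hom))))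

theorem isPullback_bcProj (h : IsPullback g' f' f g) (V : Y.Etale) :
    IsPullback (bcProj f g f' g' h.w V) (EtShriek.prV f' ((EtCoh.bc g).obj V)) (EtShriek.prV f V)
      (pullback.fst V.hom g) := by
  have T := (IsPullback.of_hasPullback (pullback.snd V.hom g) f').flip.paste_horiz h
  have R := (IsPullback.of_hasPullback V.hom f).flip
  have e₂ : pullback.snd V.hom g ≫ g = pullback.fst V.hom g ≫ V.hom := pullback.condition.symm
  have e₁ := bcProj_snd f g f' g' h.w V
  refine IsPullback.of_right ?_ (bcProj_prV f g f' g' h.w V) R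
  exact T.of_iso (Iso.refl _) (Iso.refl _) (Iso.refl _) (Iso.refl _)
    ((Category.comp_id _).trans (e₁.symm.trans (Category.id_comp _).symm))
    ((Category.comp_id _).trans (Category.id_comp _).symm) ((Category.comp_id _).trans (Category.id_comp _).symm)
    ((Category.comp_id _).trans (e₂.trans (Category.id_comp _).symm))

/-- Restriction of a section to the base change. -/
noncomputable def bcSect (V : Y.Etale) : EtCoh.sect F ((EtCoh.bc f).obj V) →+
    EtCoh.sect ((EtCoh.pull g').obj F) ((EtCoh.bc f').obj ((EtCoh.bc g).obj V)) :=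
  (((EtCoh.pull g').obj F).obj.map (bcCmp f g f' g' w V).op).hom.comp
    (((EtCoh.pullPushAdj g').unit.app F).hom.app (op ((EtCoh.bc f).obj V))).hom

theorem mem_vanishing_bcSect (V : Y.Etale) (s : EtCoh.sect F ((EtCoh.bc f).obj V)) (y) :
    y ∈ vanishing ((EtCoh.pull g').obj F) (bcSect f g f' g' w F V s) ↔ bcProj f g f' g' w V y ∈ vanishing F s := by
  refine (PBC20.mem_vanishing_map _ (bcCmp f g f' g' w V) _ y).trans ((PBC20.mem_vanishing_unitS g' F _ s _).trans ?_)
  exact iff_of_eq (congrArg (· ∈ vanishing F s) (Scheme.Hom.comp_apply _ _ y).symm)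

theorem sectSupp_bcSect (V : Y.Etale) (s : EtCoh.sect F ((EtCoh.bc f).obj V)) :
    EtShriek.sectSupp ((EtCoh.pull g').obj F) _ (bcSect f g f' g' w F V s) =
      bcProj f g f' g' w V ⁻¹' EtShriek.sectSupp F _ s := by
  rw [EtCore45.sectSupp_eq, EtCore45.sectSupp_eq]
  ext y
  exact not_congr (mem_vanishing_bcSect f g f' g' w F V s y)

theorem properSupp_bcSect [LocallyOfFiniteType f] [LocallyOfFiniteType f'] (h : IsPullback g' f' f g)
    {V : Y.Etale} {s : EtCoh.sect F ((EtCoh.bc f).obj V)} (hs : ProperSupp f F V s) :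
    ProperSupp f' ((EtCoh.pull g').obj F) ((EtCoh.bc g).obj V) (bcSect f g f' g' h.w F V s) := by
  unfold ProperSupp
  rw [sectSupp_bcSect]
  exact Coh69.PO.preimage_of_isPullback (isPullback_bcProj f g f' g' h V) hs

variable [LocallyOfFiniteType f] [LocallyOfFiniteType f'] (h : IsPullback g' f' f g)

/-- The adjoint of the base change map on sections with proper support, before restricting the target. -/
noncomputable def psi0 : (shriek f).obj F ⟶ (EtCoh.push g).obj ((EtCoh.push f').obj ((EtCoh.pull g').obj F)) :=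
  (shriekι f).app F ≫ (EtCoh.pullPushAdj g).homEquiv _ _ (EtCoh.baseChange0 f g f' g' h.w F)

omit [LocallyOfFiniteType f'] in
theorem psi0_app (V : Y.Etale) (s : EtCoh.sect ((shriek f).obj F) V) :
    (psi0 f g f' g' F h).hom.app (op V) s = bcSect f g f' g' h.w F V s.1 := by
  have e := (EtCoh.pullPushAdj g).homEquiv_unit _ _ (EtCoh.baseChange0 f g f' g' h.w F)
  refine (ConcreteCategory.congr_hom (congrArg (fun k => k.hom.app (op V)) e) s.1).trans ?_
  exact unit_bc0_app f g f' g' h.w F V s.1

/-- The adjoint of the base change map. -/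
noncomputable def chi : (shriek f).obj F ⟶ (EtCoh.push g).obj ((shriek f').obj ((EtCoh.pull g').obj F)) :=
  ⟨{ app := fun V => AddCommGrpCat.ofHom (((psi0 f g f' g' F h).hom.app V).hom.codRestrict
      (EtShriek.shriekSubgroup f' ((EtCoh.pull g').obj F) ((EtCoh.bc g).obj V.unop)) fun s => by
        refine mem_shriekSubgroup.2 ?_
        have := properSupp_bcSect f g f' g' F h (mem_shriekSubgroup.1 s.2)
        rwa [← psi0_app] at this)
     naturality := fun V W φ => ConcreteCategory.hom_ext _ _ fun s =>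
       Subtype.ext (NatTrans.naturality_apply (psi0 f g f' g' F h).hom φ s) }⟩

theorem chi_app (V : Y.Etale) (s : EtCoh.sect ((shriek f).obj F) V) :
    ((chi f g f' g' F h).hom.app (op V) s).1 = bcSect f g f' g' h.w F V s.1 :=
  psi0_app f g f' g' F h V s

/-- The base change map. -/
noncomputable def theta' : (EtCoh.pull g).obj ((shriek f).obj F) ⟶ (shriek f').obj ((EtCoh.pull g').obj F) :=
  ((EtCoh.pullPushAdj g).homEquiv _ _).symm (chi f g f' g' F h)

theorem theta'_unit (V : Y.Etale) (s : EtCoh.sect ((shriek f).obj F) V) :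
    (theta' f g f' g' F h).hom.app (op ((EtCoh.bc g).obj V)) (unitS g ((shriek f).obj F) V s) =
      (chi f g f' g' F h).hom.app (op V) s := by
  have e := (EtCoh.pullPushAdj g).homEquiv_unit _ _ (theta' f g f' g' F h)
  rw [theta', Equiv.apply_symm_apply] at e
  exact (ConcreteCategory.congr_hom (congrArg (fun k => k.hom.app (op V)) e) s).symm

theorem stalk_theta'_germ {Ω : Type u} [Field Ω] [IsSepClosed Ω] (η : Spec (CommRingCat.of Ω) ⟶ Y')
    {V : Y.Etale} (t : Pt (η ≫ g) V) (s : EtCoh.sect ((shriek f).obj F) V) :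
    (EtCoh.stalk η).map (theta' f g f' g' F h)
        (Unr55.EtSh.theta g η ((shriek f).obj F) (germ (η ≫ g) ((shriek f).obj F) t s)) =
      germ η ((shriek f').obj ((EtCoh.pull g').obj F)) (ptUp g η t) ((chi f g f' g' F h).hom.app (op V) s) := by
  rw [theta_germ, stalk_map_germ]
  exact congrArg (germ η ((shriek f').obj ((EtCoh.pull g').obj F)) (ptUp g η t)) (theta'_unit f g f' g' F h V s)

/-- The base change map is injective. -/
theorem stalk_theta'_injective {K : Type u} [Field K] [IsSepClosed K] (η : Spec (CommRingCat.of K) ⟶ Y') :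
    Function.Injective ((EtCoh.stalk η).map (theta' f g f' g' F h)) := by
  refine (injective_iff_map_eq_zero ((EtCoh.stalk η).map (theta' f g f' g' F h)).hom).2 fun a ha => ?_
  obtain ⟨b, rfl⟩ := (theta_bijective g η ((shriek f).obj F)).2 a
  obtain ⟨V, t, s, rfl⟩ := exists_germ_eq (η ≫ g) ((shriek f).obj F) b
  obtain ⟨V', k, t', h1, h2⟩ := (germ_eq_zero_iff η _ (ptUp g η t) _).1
    ((stalk_theta'_germ f g f' g' F h η t s).symm.trans ha)
  have h3 : ((EtCoh.pull g').obj F).obj.map ((EtCoh.bc f').map k).op (bcSect f g f' g' h.w F V s.1) = 0 := by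
    rw [← chi_app f g f' g' F h]
    exact congrArg Subtype.val h2
  have key : ∀ y, EtShriek.prV f V y = hom (η ≫ g) t default → y ∈ vanishing F s.1 := by
    intro y hy
    have sq := isPullback_bcProj f g f' g' h V
    have e₁ : pullback.fst V.hom g (hom η (ptUp g η t) default) = hom (η ≫ g) t default :=
      (Scheme.Hom.comp_apply _ _ _).symm.trans (congrArg (fun q : Spec (CommRingCat.of K) ⟶ V.left => q default)
        (show hom η (ptUp g η t) ≫ pullback.fst V.hom g = hom (η ≫ g) t from pullback.lift_fst _ _ _))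
    obtain ⟨z, hz1, hz2⟩ := Scheme.Pullback.exists_preimage_pullback (f := EtShriek.prV f V)
      (g := pullback.fst V.hom g) y (hom η (ptUp g η t) default) (hy.trans e₁.symm)
    have e₂ : k.left (hom η t' default) = EtShriek.prV f' ((EtCoh.bc g).obj V) (sq.isoPullback.inv z) := by
      refine Eq.trans ?_ ((congr($(sq.isoPullback_inv_snd) z)).trans hz2).symm
      exact (Scheme.Hom.comp_apply _ _ _).symm.trans (congrArg (fun q => q default)
        (congrArg (fun q => hom η q) h1))
    have sq' := EtCoh.isPullback_bc_map f' k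
    obtain ⟨z', hz'1, -⟩ := Scheme.Pullback.exists_preimage_pullback
      (f := EtShriek.prV f' ((EtCoh.bc g).obj V)) (g := k.left) (sq.isoPullback.inv z) (hom η t' default) e₂.symm
    have h4 := range_le_vanishing _ _ ((EtCoh.bc f').map k) h3
      ⟨sq'.isoPullback.inv z', ((congr($(sq'.isoPullback_inv_fst) z')).trans hz'1)⟩
    have h5 := (mem_vanishing_bcSect f g f' g' h.w F V s.1 _).1 h4
    rwa [show bcProj f g f' g' h.w V (sq.isoPullback.inv z) = y from
      (congr($(sq.isoPullback_inv_fst) z)).trans hz1] at h5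
  obtain ⟨V'', k', t'', h6, h7⟩ := exists_map_eq_zero f t s.1 (mem_shriekSubgroup.1 s.2) key
  rw [(germ_eq_zero_iff (η ≫ g) ((shriek f).obj F) t s).2 ⟨V'', k', t'', h6, Subtype.ext h7⟩, map_zero]

/-- The base change map is a monomorphism. -/
theorem mono_theta' : Mono (theta' f g f' g' F h) :=
  mono_of_stalks _ fun _ _ _ η => stalk_theta'_injective f g f' g' F h η

end Groth.Agent.Shriek20
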